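import Cfsg.Agent.Lib.LocalChar.Core
import Cfsg.Agent.Lib.Components.Cores

/-!
The chain of Sims for two subgroups meeting in a 2-subgroup of index three.
-/

set_option autoImplicit false
set_option linter.unusedSectionVars false

namespace Cfsg.Agent.Lib.SimsThree

open Subgroup
open Cfsg.Agent.Lib.LocalChar (cj mem_cj cj_cj cj_mono card_cj le_nz_iff cj_eq_of_mem_nz mem_nz_of_cj_eq)

variable {G : Type*} [Group G] [Finite G]

/-- The configuration: `H` and `N` are generated by `X` and its conjugates by `h⁻¹` and `h`. -/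
structure Data (H N X : Subgroup G) (h : G) : Prop where
  isTwo : IsPGroup 2 ↥X
  leH : X ≤ H
  idx : X.relIndex (cj h X) = 2
  notTwo : ¬ IsPGroup 2 ↥H
  genN : X ⊔ cj h X = N
  genH : cj h⁻¹ X ⊔ X = H
  nobot : ∀ K : Subgroup G, K ≤ X → H ≤ normalizer (K : Set G) → N ≤ normalizer (K : Set G) → K = ⊥

/-- The intersection of the conjugates of `X` by `h ^ j`, `lo ≤ j ≤ hi`. -/
def T (X : Subgroup G) (h : G) (lo hi : ℤ) : Subgroup G := ⨅ j : Set.Icc lo hi, cj (h ^ (j : ℤ)) X

variable {H N X : Subgroup G} {h : G}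

lemma card_mul_relIndex' {A B : Subgroup G} (hAB : A ≤ B) :
    Nat.card ↥A * A.relIndex B = Nat.card ↥B := by
  rw [← Nat.card_congr (subgroupOfEquivOfLe hAB).toEquiv]
  exact (A.subgroupOf B).card_mul_index

lemma mem_T {lo hi : ℤ} {x : G} :
    x ∈ T X h lo hi ↔ ∀ j : ℤ, lo ≤ j → j ≤ hi → x ∈ cj (h ^ j) X := by
  simp only [T, mem_iInf, Subtype.forall, Set.mem_Icc, and_imp]

lemma T_zero_zero : T X h 0 0 = X := by
  ext x
  rw [mem_T]
  constructor
  · intro hx; simpa using hx 0 le_rfl le_rfl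
  · intro hx j h1 h2
    obtain rfl : j = 0 := le_antisymm h2 h1
    simpa using hx

lemma cj_T (t lo hi : ℤ) : cj (h ^ t) (T X h lo hi) = T X h (lo + t) (hi + t) := by
  ext x
  rw [mem_cj, mem_T, mem_T]
  constructor
  · intro hx j h1 h2
    have := hx (j - t) (by omega) (by omega)
    rw [mem_cj] at this ⊢
    rw [show j = t + (j - t) by omega, zpow_add]
    simpa only [mul_inv_rev, mul_assoc] using this
  · intro hx j h1 h2
    have := hx (j + t) (by omega) (by omega)
    rw [mem_cj] at this ⊢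
    rw [add_comm, zpow_add] at this
    simpa only [mul_inv_rev, mul_assoc] using this

lemma T_mono {lo hi lo' hi' : ℤ} (h1 : lo ≤ lo') (h2 : hi' ≤ hi) : T X h lo hi ≤ T X h lo' hi' :=
  fun _ hx => mem_T.2 fun j a b => mem_T.1 hx j (h1.trans a) (b.trans h2)

lemma T_inf {lo hi lo' hi' : ℤ} (h1 : lo' ≤ hi + 1) (h2 : lo ≤ hi' + 1) :
    T X h lo hi ⊓ T X h lo' hi' = T X h (min lo lo') (max hi hi') := by
  refine le_antisymm (fun x ⟨a, b⟩ => mem_T.2 fun j c d => ?_)
    (le_inf (T_mono (min_le_left _ _) (le_max_left _ _)) (T_mono (min_le_right _ _) (le_max_right _ _)))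
  by_cases hj : lo ≤ j ∧ j ≤ hi
  · exact mem_T.1 a j hj.1 hj.2
  · exact mem_T.1 b j (by omega) (by omega)

lemma card_T_shift (t lo hi : ℤ) :
    Nat.card ↥(T X h (lo + t) (hi + t)) = Nat.card ↥(T X h lo hi) := by
  rw [← cj_T, card_cj]

lemma T_succ_eq (n : ℕ) : T X h 0 (n + 1 : ℕ) = X ⊓ T X h 1 (n + 1 : ℕ) := by
  rw [show X ⊓ T X h 1 (n + 1 : ℕ) = T X h 0 0 ⊓ T X h 1 (n + 1 : ℕ) by rw [T_zero_zero],
    T_inf (by simp) (by omega)]
  congr 1 <;> omega

lemma Data.card_step (d : Data H N X h) (n : ℕ) :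
    ∃ i, i ≤ 2 ∧ Nat.card ↥(T X h 0 n) = i * Nat.card ↥(T X h 0 (n + 1 : ℕ)) := by
  refine ⟨X.relIndex (T X h 1 (n + 1 : ℕ)), ?_, ?_⟩
  · refine le_trans (relIndex_le_of_le_right ?_ (by rw [d.idx]; norm_num)) d.idx.le
    have h1 : T X h 1 (n + 1 : ℕ) ≤ T X h 1 1 := T_mono le_rfl (by omega)
    refine h1.trans_eq ?_
    have := cj_T (X := X) (h := h) 1 0 0
    rw [T_zero_zero, zpow_one] at this
    simpa using this.symm
  · have h1 : Nat.card ↥(T X h 1 (n + 1 : ℕ)) = Nat.card ↥(T X h 0 n) := by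
      have := card_T_shift (X := X) (h := h) 1 0 n
      simpa using this
    rw [← h1, ← inf_relIndex_right, ← T_succ_eq, mul_comm]
    exact (card_mul_relIndex' (T_mono (by omega) le_rfl)).symm

lemma Data.stable_eq_bot (d : Data H N X h) :
    ∀ n : ℕ, T X h 0 (n + 1 : ℕ) = T X h 0 n → T X h 0 n = ⊥ := by
  classical
  by_contra hc
  push Not at hc
  obtain ⟨n, ⟨hn, hne⟩, hmin⟩ : ∃ n, (T X h 0 (n + 1 : ℕ) = T X h 0 n ∧ T X h 0 n ≠ ⊥) ∧
      ∀ j < n, ¬ (T X h 0 (j + 1 : ℕ) = T X h 0 j ∧ T X h 0 j ≠ ⊥) :=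
    ⟨Nat.find hc, Nat.find_spec hc, fun j hj => Nat.find_min hc hj⟩
  set S := T X h 0 n with hS
  have hn1 : 1 ≤ n := by
    by_contra hn0
    obtain rfl : n = 0 := by omega
    have e : cj h X = X := by
      refine (eq_of_le_of_card_ge ?_ (card_cj h X).le).symm
      have h1 : T X h 0 (0 + 1 : ℕ) ≤ T X h 1 1 := T_mono (by simp) (by simp)
      rw [hn, hS] at h1
      have := cj_T (X := X) (h := h) 1 0 0
      rw [T_zero_zero, zpow_one] at this
      simp only [Nat.cast_zero, T_zero_zero] at h1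
      refine h1.trans_eq ?_
      simpa using this.symm
    have := d.idx
    rw [e, relIndex_self] at this
    omega
  have hSX : S ≤ X := (T_mono le_rfl (by omega)).trans_eq T_zero_zero
  have hh : cj h S = S := by
    have h1 : S ≤ cj h S := by
      have := cj_T (X := X) (h := h) 1 0 n
      rw [zpow_one] at this
      rw [hS, this]
      rw [show T X h 0 (n : ℤ) = T X h 0 (n + 1 : ℕ) from hn.symm]
      exact T_mono (by omega) (by omega)
    exact (eq_of_le_of_card_ge h1 (card_cj h S).le).symm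
  have hhn : ∀ i : ℤ, h ^ i ∈ normalizer (S : Set G) := fun i => zpow_mem (mem_nz_of_cj_eq hh) i
  have hj : ∀ j : ℕ, j < n → T X h 0 ((n - 1 - j : ℕ) : ℤ) ≤ normalizer (S : Set G) := by
    intro j hjn
    induction j with
    | zero =>
      obtain ⟨i, hi, hcard⟩ := d.card_step (n - 1)
      rw [show n - 1 + 1 = n by omega, ← hS] at hcard
      rw [show n - 1 - 0 = n - 1 by omega]
      have hle : S ≤ T X h 0 (n - 1 : ℕ) := T_mono le_rfl (by omega)
      haveI : (S.subgroupOf (T X h 0 (n - 1 : ℕ))).Normal := by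
        have hr : S.relIndex (T X h 0 (n - 1 : ℕ)) = i := by
          have := card_mul_relIndex' hle
          rw [hcard, mul_comm i] at this
          exact mul_left_cancel₀ Nat.card_pos.ne' this
        rcases Nat.lt_or_ge i 2 with h2 | h2
        · have h1 : S.relIndex (T X h 0 (n - 1 : ℕ)) = 1 := by
            have : S.relIndex (T X h 0 (n - 1 : ℕ)) ≠ 0 := index_ne_zero_of_finite
            omega
          rw [subgroupOf_eq_top.2 (relIndex_eq_one.1 h1)]
          infer_instance
        · exact normal_of_index_eq_two (show S.relIndex _ = 2 by omega)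
      exact (normal_subgroupOf_iff_le_normalizer hle).1 inferInstance
    | succ j ih =>
      set i := n - 1 - j with hi
      have hi1 : n - 1 - (j + 1) = i - 1 := by omega
      have hipos : 1 ≤ i := by omega
      rw [hi1]
      set A := T X h 0 (i : ℤ)
      set B := T X h 0 ((i - 1 : ℕ) : ℤ)
      set A' := cj (h ^ (-1 : ℤ)) A with hA'
      have hAB : A ≤ B := T_mono le_rfl (by omega)
      have hA'B : A' ≤ B := by
        rw [hA', cj_T]; exact T_mono (by omega) (by omega)
      have hne' : A ≠ ⊥ := fun e => hne (le_bot_iff.1 (e ▸ T_mono le_rfl (by omega)))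
      have hAA : A' ≠ A := by
        intro e
        refine hmin i (by omega) ⟨?_, hne'⟩
        have e2 : cj (h ^ (1 : ℤ)) A = A := by
          conv_lhs => rw [← e, hA', cj_cj, ← zpow_add]
          simp
        refine le_antisymm (T_mono le_rfl (by omega)) ?_
        rw [T_succ_eq]
        refine le_inf ((T_mono le_rfl (by omega)).trans_eq T_zero_zero) ?_
        have := cj_T (X := X) (h := h) 1 0 i
        rw [e2] at this
        exact this.le.trans_eq (by simp)
      obtain ⟨r, hr, hcard⟩ := d.card_step (i - 1)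
      rw [show i - 1 + 1 = i by omega] at hcard
      have hlt : A < A ⊔ A' := lt_of_le_of_ne le_sup_left fun e => hAA
        (eq_of_le_of_card_ge (e ▸ le_sup_right) (card_cj _ A).ge)
      have hB : A ⊔ A' = B := by
        refine eq_of_le_of_card_ge (sup_le hAB hA'B) ?_
        have hlt' : Nat.card ↥A < Nat.card ↥(A ⊔ A') :=
          lt_of_le_of_ne (card_le_of_le hlt.le) fun e => hlt.ne (eq_of_le_of_card_ge hlt.le e.ge)
        have h2 : 2 * Nat.card ↥A ≤ Nat.card ↥(A ⊔ A') := by
          obtain ⟨q, hq⟩ := card_dvd_of_le hlt.le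
          rw [hq] at hlt' ⊢
          rcases q with _ | _ | q
          · simp at hlt'
          · simp at hlt'
          · rw [mul_comm 2]; exact Nat.mul_le_mul_left _ (by omega)
        show Nat.card ↥B ≤ _
        rw [hcard]
        exact le_trans (Nat.mul_le_mul_right _ hr) h2
      rw [← hB]
      refine sup_le (ih (by omega)) ?_
      rintro _ ⟨a, ha, rfl⟩
      exact mul_mem (mul_mem (hhn _) (ih (by omega) ha)) (inv_mem (hhn _))
  have hXn : X ≤ normalizer (S : Set G) := by
    have := hj (n - 1) (by omega)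
    simpa [T_zero_zero] using this
  have hsh : ∀ g, g ∈ normalizer (S : Set G) → cj g X ≤ normalizer (S : Set G) := by
    intro g hg x hx
    rw [mem_cj] at hx
    simpa [mul_assoc] using mul_mem (mul_mem hg (hXn hx)) (inv_mem hg)
  refine hne (d.nobot S hSX ?_ ?_)
  · rw [← d.genH]; exact sup_le (hsh _ (by simpa using hhn (-1))) hXn
  · rw [← d.genN]; exact sup_le hXn (hsh _ (by simpa using hhn 1))

lemma Data.exists_k (d : Data H N X h) : ∃ k : ℕ, 1 ≤ k ∧ Nat.card ↥X = 2 ^ k ∧
    ∀ n : ℕ, n ≤ k → Nat.card ↥(T X h 0 n) = 2 ^ (k - n) := by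
  obtain ⟨k, hk⟩ := IsPGroup.iff_card.1 d.isTwo
  refine ⟨k, ?_, hk, fun n hn => ?_⟩
  · by_contra h0
    obtain rfl : k = 0 := by omega
    have hX : X = ⊥ := card_eq_one.1 (by simpa using hk)
    have := d.idx
    rw [hX, relIndex_bot_left, cj, Subgroup.map_bot] at this
    simp at this
  induction n with
  | zero => simpa [T_zero_zero] using hk
  | succ n ih =>
    obtain ⟨i, hi, hcard⟩ := d.card_step n
    have hn' := ih (by omega)
    have hne : i ≠ 1 := fun e => by
      rw [e, one_mul] at hcard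
      have := d.stable_eq_bot n (eq_of_le_of_card_ge (T_mono le_rfl (by omega)) hcard.le)
      rw [this, card_bot] at hn'
      have : 2 ^ 1 ≤ 2 ^ (k - n) := Nat.pow_le_pow_right (by norm_num) (by omega)
      omega
    have h0 : i ≠ 0 := fun e => by
      rw [e, zero_mul] at hcard
      exact Nat.card_pos.ne' hcard
    obtain rfl : i = 2 := by omega
    rw [hn', show k - n = (k - (n + 1)) + 1 by omega, pow_succ, mul_comm] at hcard
    exact (Nat.eq_of_mul_eq_mul_left two_pos hcard).symm

end Cfsg.Agent.Lib.SimsThree
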