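import Cfsg.Agent.Lib.SimsThree.Small
import Cfsg.Agent.Lib.Hall.Gaschutz
import Cfsg.Agent.Lib.LocalChar.Basic
import Cfsg.Agent.Lib.Components.Cores

/-!
Recognition of `S₄ × C₂`.
-/

set_option autoImplicit false
set_option linter.style.haveILetI false

namespace Cfsg.Agent.Lib.SimsThree

open Subgroup

variable {K : Type*} [Group K] [Finite K]

/-- Recognition of `S₄ × C₂`. -/
theorem perm_four_two (W : Subgroup K) [W.Normal] (hW : Nat.card ↥W = 4) (hK : Nat.card K = 48)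
    {u v a b c : K} (hu : u ∈ W) (hv : v ∈ W) (hu1 : u ≠ 1) (hau : a * u * a⁻¹ = u)
    (hav : a * v * a⁻¹ = u * v) (hbu : b * u * b⁻¹ = u * v) (hbv : b * v * b⁻¹ = v)
    (ha2 : a * a = 1) (hb2 : b * b = 1) (hc : ∀ x : K, x * c = c * x) (hc2 : c * c = 1) (hcW : c ∉ W) :
    Nonempty (K ≃* Equiv.Perm (Fin 4) × Multiplicative (ZMod 2)) := by
  classical
  haveI : Fact (Nat.Prime 2) := ⟨Nat.prime_two⟩
  set Z := zpowers c with hZdef
  have hc1 : c ≠ 1 := fun e => hcW (e ▸ one_mem W)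
  have hZcard : Nat.card ↥Z = 2 := by
    rw [Nat.card_zpowers]
    exact orderOf_eq_prime (by rw [pow_two]; exact hc2) hc1
  have hZc : Z ≤ center K := zpowers_le.2 (mem_center_iff.2 hc)
  haveI : Z.Normal := ⟨fun x hx g => by rwa [mem_center_iff.1 (hZc hx) g, mul_inv_cancel_right]⟩
  have hWZ : W ⊓ Z = ⊥ := by
    refine (Subgroup.eq_bot_iff_forall _).2 fun x hx => ?_
    obtain ⟨i, rfl⟩ := hx.2
    rcases Int.even_or_odd i with ⟨j, rfl⟩ | ⟨j, rfl⟩
    · show c ^ (j + j) = 1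
      rw [← two_mul, zpow_mul, zpow_two, hc2, one_zpow]
    · exfalso
      refine hcW ?_
      have := hx.1
      change c ^ (2 * j + 1) ∈ W at this
      rwa [zpow_add, zpow_mul, zpow_two, hc2, one_zpow, one_mul, zpow_one] at this
  -- the quotient by `c`
  let π := QuotientGroup.mk' Z
  have hWb : Nat.card ↥(W.map π) = 4 := by
    rw [← relIndex_ker, QuotientGroup.ker_mk', ← inf_relIndex_right, inf_comm, hWZ, relIndex_bot_left, hW]
  haveI : (W.map π).Normal := Normal.map inferInstance _ (QuotientGroup.mk'_surjective Z)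
  have hKZ : Nat.card (K ⧸ Z) = 24 := by
    have := Z.card_eq_card_quotient_mul_card_subgroup
    rw [hK, hZcard] at this
    omega
  have key : ∀ x y z : K, x * y * x⁻¹ = z → π x * π y * (π x)⁻¹ = π z := fun x y z e => by
    rw [← map_inv, ← map_mul, ← map_mul, e]
  obtain ⟨e4⟩ := perm_four (W.map π) hWb hKZ (u := π u) (v := π v) (a := π a) (b := π b)
    ⟨u, hu, rfl⟩ ⟨v, hv, rfl⟩ (fun e => hu1 (mem_bot.1 (hWZ ▸ ⟨hu, (QuotientGroup.eq_one_iff u).1 e⟩ :
      u ∈ (⊥ : Subgroup K)))) (key _ _ _ hau) (by rw [key _ _ _ hav, map_mul])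
    (by rw [key _ _ _ hbu, map_mul]) (key _ _ _ hbv)
    (by rw [← map_mul, ha2, map_one]) (by rw [← map_mul, hb2, map_one])
  -- a complement
  have hWc : IsMulCommutative ↥W := IsPGroup.isMulCommutative_of_card_eq_prime_sq (p := 2) hW
  have hanC : ∀ w ∈ W, a ≠ w ∧ a ≠ w * c := by
    intro w hw
    have hnc : ∀ t : K, (∀ s ∈ W, t * s = s * t) → a ≠ t := fun t ht e => by
      rw [e, ht v hv, mul_inv_cancel_right] at hav
      exact hu1 (mul_eq_right.1 hav.symm)
    refine ⟨hnc w fun s hs => congrArg Subtype.val (mul_comm' (⟨w, hw⟩ : ↥W) ⟨s, hs⟩), hnc _ fun s hs => ?_⟩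
    rw [mul_assoc, ← hc s, ← mul_assoc,
      show w * s = s * w from congrArg Subtype.val (mul_comm' (⟨w, hw⟩ : ↥W) ⟨s, hs⟩), mul_assoc]
  have hWn : zpowers a ≤ normalizer (W : Set K) := by rw [normalizer_eq_top]; exact le_top
  set A := W ⊔ zpowers a with hAdef
  have haord : Nat.card ↥(zpowers a) = 2 := by
    rw [Nat.card_zpowers]
    exact orderOf_eq_prime (by rw [pow_two]; exact ha2) fun e => (hanC 1 (one_mem _)).1 e
  have hzp : ∀ {t x : K}, t * t = 1 → x ∈ zpowers t → x = 1 ∨ x = t := by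
    intro t x ht hx
    obtain ⟨i, rfl⟩ := hx
    rcases Int.even_or_odd i with ⟨j, rfl⟩ | ⟨j, rfl⟩
    · left; show t ^ (j + j) = 1; rw [← two_mul, zpow_mul, zpow_two, ht, one_zpow]
    · right; show t ^ (2 * j + 1) = t
      rw [zpow_add, zpow_mul, zpow_two, ht, one_zpow, one_mul, zpow_one]
  have hA : Nat.card ↥A = 8 := by
    have h := Cfsg.Agent.Lib.Components.card_sup_mul_card_inf_eq (N := W) (M := zpowers a) hWn
    have h0 : W ⊓ zpowers a = ⊥ := (Subgroup.eq_bot_iff_forall _).2 fun x hx =>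
      (hzp ha2 hx.2).resolve_right fun e => (hanC x hx.1).1 e.symm
    rw [h0, card_bot, mul_one, hW, haord] at h
    exact h
  have hAZ : A ⊓ Z = ⊥ := by
    refine (Subgroup.eq_bot_iff_forall _).2 fun x hx => (hzp hc2 hx.2).resolve_right fun e => ?_
    have h1 : c ∈ A := e ▸ hx.1
    obtain ⟨w, hw, t, ht, hwt⟩ := (Cfsg.Agent.Lib.LocalChar.mem_sup_iff_of_nz' hWn).1 h1
    rcases hzp ha2 ht with rfl | rfl
    · exact hcW (by rw [hwt, mul_one]; exact hw)
    · exact (hanC w⁻¹ (inv_mem hw)).2 (by rw [hwt, inv_mul_cancel_left])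
  have hAn : A ≤ normalizer (Z : Set K) := by rw [normalizer_eq_top]; exact le_top
  set U := Z ⊔ A with hUdef
  have hU : Nat.card ↥U = 16 := by
    have h := Cfsg.Agent.Lib.Components.card_sup_mul_card_inf_eq (N := Z) (M := A) hAn
    rw [inf_comm, hAZ, card_bot, mul_one, hZcard, hA] at h
    exact h
  have hcompl : IsComplement' (Z.subgroupOf U) (A.subgroupOf U) := by
    refine isComplement'_of_card_mul_and_disjoint ?_ ?_
    · rw [Nat.card_congr (subgroupOfEquivOfLe le_sup_left).toEquiv,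
        Nat.card_congr (subgroupOfEquivOfLe le_sup_right).toEquiv, hZcard, hA, hU]
    · rw [disjoint_iff, Subgroup.eq_bot_iff_forall]
      rintro ⟨x, hx⟩ ⟨h1, h2⟩
      exact Subtype.ext (mem_bot.1 (hAZ ▸ ⟨h2, h1⟩ : x ∈ (⊥ : Subgroup K)))
  haveI : IsMulCommutative ↥Z :=
    ⟨⟨fun s t => Subtype.ext (mem_center_iff.1 (hZc t.2) s)⟩⟩
  obtain ⟨L, hL⟩ := Cfsg.Agent.Lib.Hall.exists_complement_of_relative Z (U := U) le_sup_left (by
    have h1 := U.card_mul_index
    rw [hU, hK] at h1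
    rw [hZcard, show U.index = 3 by omega]
    norm_num) hcompl
  have hcm : ∀ (x : ↥L) (y : ↥Z), Commute (L.subtype x) (Z.subtype y) := fun x y =>
    mem_center_iff.1 (hZc y.2) x
  let F : ↥L × ↥Z →* K := MonoidHom.noncommCoprod L.subtype Z.subtype hcm
  have hF : Function.Bijective F := by
    refine (Nat.bijective_iff_surjective_and_card F).2 ⟨?_, ?_⟩
    · rw [← MonoidHom.range_eq_top]; dsimp only [F]
      rw [MonoidHom.noncommCoprod_range, range_subtype, range_subtype,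
        sup_comm]
      exact hL.sup_eq_top
    · rw [Nat.card_prod, mul_comm]; exact hL.card_mul
  exact ⟨(MulEquiv.ofBijective F hF).symm.trans (MulEquiv.prodCongr
    (hL.symm.QuotientMulEquiv.symm.trans e4)
    (mulEquivOfPrimeCardEq (p := 2) hZcard (by simp)))⟩

end Cfsg.Agent.Lib.SimsThree
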