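import Cfsg.Agent.Lib.SimsThree.Chain

/-!
Generators of Sims and the bound.
-/

set_option autoImplicit false
set_option linter.unusedSectionVars false

namespace Cfsg.Agent.Lib.SimsThree

open Subgroup
open Cfsg.Agent.Lib.LocalChar (cj mem_cj cj_cj cj_mono card_cj le_nz_iff mem_nz_of_cj_eq cj_le_iff)

variable {G : Type*} [Group G] [Finite G]

/-- The shifted generators. -/
structure Gens (H N X : Subgroup G) (h : G) (k : ℕ) (z : ℤ → G) : Prop where
  data : Data H N X h
  kpos : 1 ≤ k
  card : ∀ n : ℕ, n ≤ k → Nat.card ↥(T X h 0 n) = 2 ^ (k - n)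
  shift : ∀ i t : ℤ, h ^ t * z i * (h ^ t)⁻¹ = z (i + t)
  mem : ∀ i : ℤ, z i ∈ T X h (i - k) (i - 1)
  ne : ∀ i : ℤ, z i ≠ 1

/-- The span of the generators `z a`, …, `z b`. -/
def I (X : Subgroup G) (h : G) (k : ℕ) (a b : ℤ) : Subgroup G := T X h (b - k) (a - 1)

variable {H N X : Subgroup G} {h : G}

lemma Data.exists_gens (d : Data H N X h) : ∃ (k : ℕ) (z : ℤ → G), Gens H N X h k z := by
  obtain ⟨k, hk1, -, hk⟩ := d.exists_k
  obtain ⟨x, hx, hx1⟩ : ∃ x ∈ T X h 0 (k - 1 : ℕ), x ≠ 1 := by
    refine ((bot_or_exists_ne_one _).resolve_left fun e => ?_)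
    have := hk (k - 1) (by omega)
    rw [e, card_bot, show k - (k - 1) = 1 by omega] at this
    norm_num at this
  refine ⟨k, fun i => h ^ (i - k) * x * (h ^ (i - k))⁻¹, d, hk1, hk, fun i t => ?_, fun i => ?_, fun i => ?_⟩
  · rw [show i + t - k = t + (i - k) by omega, zpow_add]
    simp only [mul_inv_rev, mul_assoc]
  · have h1 := Cfsg.Agent.Lib.LocalChar.conj_mem_cj (g := h ^ (i - k : ℤ)) hx
    rw [cj_T] at h1
    rwa [zero_add, show ((k - 1 : ℕ) : ℤ) + (i - k) = i - 1 by omega] at h1
  · simpa using hx1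

variable {k : ℕ} {z : ℤ → G}

lemma Gens.card_T (g : Gens H N X h k z) {lo hi : ℤ} (h1 : lo ≤ hi) (h2 : hi ≤ lo + k) :
    Nat.card ↥(T X h lo hi) = 2 ^ (k - (hi - lo).toNat) := by
  rw [← g.card (hi - lo).toNat (by omega), ← card_T_shift lo 0 ((hi - lo).toNat : ℤ)]
  congr! <;> omega

lemma Gens.card_I (g : Gens H N X h k z) {a b : ℤ} (h1 : a ≤ b + 1) (h2 : b + 1 ≤ a + k) :
    Nat.card ↥(I X h k a b) = 2 ^ (b + 1 - a).toNat := by
  rw [I, g.card_T (by omega) (by omega)]
  congr 1; omega

lemma Gens.I_eq_bot (g : Gens H N X h k z) {a b : ℤ} (h1 : b < a) : I X h k a b = ⊥ := by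
  refine le_bot_iff.1 ((T_mono (lo := b - k) (hi := a - 1) (lo' := a - 1 - k) (hi' := a - 1)
    (by omega) le_rfl).trans_eq ?_)
  exact card_eq_one.1 (by rw [g.card_T (by omega) (by omega)]; simp)

lemma Gens.mem_I (g : Gens H N X h k z) {a b i : ℤ} (h1 : a ≤ i) (h2 : i ≤ b) :
    z i ∈ I X h k a b := T_mono (by omega) (by omega) (g.mem i)

lemma I_mono {a b a' b' : ℤ} (h1 : a' ≤ a) (h2 : b ≤ b') : I X h k a b ≤ I X h k a' b' :=
  T_mono (by omega) (by omega)

lemma I_inf {a b c e : ℤ} (h1 : e - k ≤ a) (h2 : b - k ≤ c) :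
    I X h k a b ⊓ I X h k c e = I X h k (max a c) (min b e) := by
  rw [I, I, I, T_inf (by omega) (by omega)]
  congr 1 <;> omega

lemma Gens.I_eq_sup (g : Gens H N X h k z) {a b : ℤ} (h1 : a < b) (h2 : b + 1 ≤ a + k) :
    I X h k a (b - 1) ⊔ I X h k (a + 1) b = I X h k a b := by
  set A := I X h k a (b - 1)
  set A' := I X h k (a + 1) b
  have hle : A ⊔ A' ≤ I X h k a b := sup_le (I_mono le_rfl (by omega)) (I_mono (by omega) le_rfl)
  refine eq_of_le_of_card_ge hle ?_
  have hA := g.card_I (a := a) (b := b - 1) (by omega) (by omega)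
  have hB := g.card_I (a := a) (b := b) (by omega) (by omega)
  have hlt : A < A ⊔ A' := lt_of_le_of_ne le_sup_left fun e => by
    have e1 : A' ≤ A := e ▸ le_sup_right
    have e2 : A ⊓ A' = A' := inf_eq_right.2 e1
    rw [I_inf (by omega) (by omega)] at e2
    have := g.card_I (a := max a (a + 1)) (b := min (b - 1) b) (by omega) (by omega)
    rw [e2, g.card_I (a := a + 1) (b := b) (by omega) (by omega)] at this
    have := Nat.pow_right_injective le_rfl this
    omega
  obtain ⟨q, hq⟩ := card_dvd_of_le hlt.le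
  have hne : Nat.card ↥A ≠ Nat.card ↥(A ⊔ A') := fun e => hlt.ne (eq_of_le_of_card_ge hlt.le e.ge)
  rw [hB, show (b + 1 - a).toNat = (b - 1 + 1 - a).toNat + 1 by omega, pow_succ, ← hA]
  rw [hq] at hne ⊢
  rcases q with _ | _ | q
  · exact absurd hq Nat.card_pos.ne'
  · simp at hne
  · exact Nat.mul_le_mul_left _ (by omega)

lemma Gens.zpowers_eq (g : Gens H N X h k z) (i : ℤ) : zpowers (z i) = I X h k i i := by
  have := g.kpos
  refine eq_of_le_of_card_ge (zpowers_le.2 (g.mem_I le_rfl le_rfl)) ?_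
  rw [g.card_I (by omega) (by omega), Nat.card_zpowers, show (i + 1 - i).toNat = 1 by omega, pow_one]
  by_contra hc
  have h0 := orderOf_pos (z i)
  exact g.ne i (orderOf_eq_one_iff.1 (by omega))

lemma Gens.sq (g : Gens H N X h k z) (i : ℤ) : z i * z i = 1 := by
  have h2 : orderOf (z i) = 2 := by
    rw [← Nat.card_zpowers, g.zpowers_eq, g.card_I (by omega) (by have := g.kpos; omega),
      show (i + 1 - i).toNat = 1 by omega, pow_one]
  rw [← pow_two, ← h2, pow_orderOf_eq_one]

lemma Gens.I_le (g : Gens H N X h k z) {S : Subgroup G} :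
    ∀ (n : ℕ) {a b : ℤ}, b + 1 - a = n → n ≤ k → (∀ l : ℤ, a ≤ l → l ≤ b → z l ∈ S) →
      I X h k a b ≤ S := by
  intro n
  induction n using Nat.strong_induction_on with
  | _ n ih =>
    intro a b hab hnk hS
    rcases Nat.lt_or_ge n 2 with hn | hn
    · rcases Nat.lt_or_ge n 1 with hn0 | hn0
      · rw [g.I_eq_bot (by omega)]; exact bot_le
      · obtain rfl : b = a := by omega
        rw [← g.zpowers_eq, zpowers_le]; exact hS _ le_rfl le_rfl
    · rw [← g.I_eq_sup (by omega) (by omega)]
      exact sup_le (ih (n - 1) (by omega) (by omega) (by omega) fun l h1 h2 => hS l h1 (by omega))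
        (ih (n - 1) (by omega) (by omega) (by omega) fun l h1 h2 => hS l (by omega) h2)

lemma Gens.I_le' (g : Gens H N X h k z) {S : Subgroup G} {a b : ℤ} (hk : b + 1 ≤ a + k)
    (hS : ∀ l : ℤ, a ≤ l → l ≤ b → z l ∈ S) : I X h k a b ≤ S := by
  rcases lt_or_ge b a with hlt | hge
  · rw [g.I_eq_bot hlt]; exact bot_le
  · exact g.I_le (b + 1 - a).toNat (by omega) (by omega) hS

lemma Gens.commute_of_I (g : Gens H N X h k z) {a b : ℤ} (hk : b + 1 ≤ a + k) {x : G}
    (hS : ∀ l : ℤ, a ≤ l → l ≤ b → Commute (z l) x) {w : G} (hw : w ∈ I X h k a b) : Commute w x :=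
  mem_centralizer_singleton_iff.1 (g.I_le' (S := centralizer {x}) hk
    (fun l h1 h2 => mem_centralizer_singleton_iff.2 (hS l h1 h2)) hw)

lemma Gens.commute_shift (g : Gens H N X h k z) {i j : ℤ} (t : ℤ) (hc : Commute (z i) (z j)) :
    Commute (z (i + t)) (z (j + t)) := by
  rw [← g.shift i t, ← g.shift j t]
  exact hc.map (MulAut.conj (h ^ t)).toMonoidHom

/-- Splitting off the lowest generator. -/
lemma Gens.mul_mem_succ (g : Gens H N X h k z) {a b : ℤ} (h1 : a ≤ b) (h2 : b + 1 ≤ a + k) {w : G}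
    (hw : w ∈ I X h k a b) (hw' : w ∉ I X h k (a + 1) b) : z a * w ∈ I X h k (a + 1) b := by
  have hle : I X h k (a + 1) b ≤ I X h k a b := I_mono (by omega) le_rfl
  have hidx : ((I X h k (a + 1) b).subgroupOf (I X h k a b)).index = 2 := by
    have := card_mul_relIndex' hle
    rw [g.card_I (by omega) (by omega), g.card_I (by omega) (by omega),
      show (b + 1 - a).toNat = (b + 1 - (a + 1)).toNat + 1 by omega, pow_succ] at this
    exact mul_left_cancel₀ (pow_ne_zero _ two_ne_zero) this
  have hza : z a ∉ I X h k (a + 1) b := by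
    intro hz
    have : z a ∈ I X h k a a ⊓ I X h k (a + 1) b := ⟨g.mem_I le_rfl le_rfl, hz⟩
    have hk0 := g.kpos
    rw [I_inf (by omega) (by omega), g.I_eq_bot (by omega)] at this
    exact g.ne a (mem_bot.1 this)
  exact (mul_mem_iff_of_index_two hidx (a := ⟨z a, g.mem_I le_rfl h1⟩) (b := ⟨w, hw⟩)).2
    ⟨fun e => absurd e hza, fun e => absurd e hw'⟩

/-- Splitting off the highest generator. -/
lemma Gens.mul_mem_pred (g : Gens H N X h k z) {a b : ℤ} (h1 : a ≤ b) (h2 : b + 1 ≤ a + k) {w : G}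
    (hw : w ∈ I X h k a b) (hw' : w ∉ I X h k a (b - 1)) : w * z b ∈ I X h k a (b - 1) := by
  have hle : I X h k a (b - 1) ≤ I X h k a b := I_mono le_rfl (by omega)
  have hidx : ((I X h k a (b - 1)).subgroupOf (I X h k a b)).index = 2 := by
    have := card_mul_relIndex' hle
    rw [g.card_I (by omega) (by omega), g.card_I (by omega) (by omega),
      show (b + 1 - a).toNat = (b - 1 + 1 - a).toNat + 1 by omega, pow_succ] at this
    exact mul_left_cancel₀ (pow_ne_zero _ two_ne_zero) this
  have hza : z b ∉ I X h k a (b - 1) := by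
    intro hz
    have : z b ∈ I X h k b b ⊓ I X h k a (b - 1) := ⟨g.mem_I le_rfl le_rfl, hz⟩
    have hk0 := g.kpos
    rw [I_inf (by omega) (by omega), g.I_eq_bot (by omega)] at this
    exact g.ne b (mem_bot.1 this)
  exact (mul_mem_iff_of_index_two hidx (a := ⟨w, hw⟩) (b := ⟨z b, g.mem_I h1 le_rfl⟩)).2
    ⟨fun e => absurd e hw', fun e => absurd e hza⟩

/-- `m` is the least distance of two noncommuting generators. -/
structure Dist (z : ℤ → G) (m : ℕ) : Prop where
  pos : 1 ≤ m
  comm : ∀ i j : ℤ, j - i < m → i - j < m → Commute (z i) (z j)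
  ncomm : ∀ i : ℤ, ¬ Commute (z i) (z (i + m))

variable {m : ℕ}

/-- An element central in an interval lies in a shorter one. -/
lemma Gens.central_le (g : Gens H N X h k z) (d : Dist z m) {a b : ℤ} (hk : b + 1 ≤ a + k)
    (hm : b + 1 ≤ a + 2 * m) {w : G} (hw : w ∈ I X h k a b)
    (hc : ∀ l : ℤ, a ≤ l → l ≤ b → Commute (z l) w) :
    w ∈ I X h k (max a (b - m + 1)) b ∧ w ∈ I X h k a (min b (a + m - 1)) := by
  have hm1 := d.pos
  constructor
  · suffices ∀ n : ℕ, a + n ≤ max a (b - m + 1) → w ∈ I X h k (a + n) b by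
      have h1 := this (max a (b - m + 1) - a).toNat (by omega)
      rwa [show a + ((max a (b - m + 1) - a).toNat : ℤ) = max a (b - m + 1) by omega] at h1
    intro n
    induction n with
    | zero => intro _; simpa using hw
    | succ n ih =>
      intro hn
      have h1 := ih (by omega)
      by_contra h2
      rw [show a + (n + 1 : ℕ) = a + n + 1 by omega] at h2
      have h3 := g.mul_mem_succ (by omega) (by omega) h1 h2
      have h4 : Commute (z (a + n) * w) (z (a + n + m)) :=
        g.commute_of_I (by omega) (fun l h5 h6 => d.comm l _ (by omega) (by omega)) h3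
      have h7 : Commute w (z (a + n + m)) := (hc _ (by omega) (by omega)).symm
      have h8 := h4.mul_left h7.inv_left
      rw [mul_inv_cancel_right] at h8
      exact d.ncomm _ h8
  · suffices ∀ n : ℕ, min b (a + m - 1) ≤ b - n → w ∈ I X h k a (b - n) by
      have h1 := this (b - min b (a + m - 1)).toNat (by omega)
      rwa [show b - ((b - min b (a + m - 1)).toNat : ℤ) = min b (a + m - 1) by omega] at h1
    intro n
    induction n with
    | zero => intro _; simpa using hw
    | succ n ih =>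
      intro hn
      have h1 := ih (by omega)
      by_contra h2
      rw [show b - (n + 1 : ℕ) = b - n - 1 by omega] at h2
      have h3 := g.mul_mem_pred (by omega) (by omega) h1 h2
      have h4 : Commute (w * z (b - n)) (z (b - n - m)) :=
        g.commute_of_I (by omega) (fun l h5 h6 => d.comm l _ (by omega) (by omega)) h3
      have h7 : Commute w (z (b - n - m)) := (hc _ (by omega) (by omega)).symm
      have h8 := h7.inv_left.mul_left h4
      rw [inv_mul_cancel_left] at h8
      have h9 := d.ncomm (b - n - m)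
      rw [sub_add_cancel] at h9
      exact h9 h8.symm

lemma I_X (X : Subgroup G) (h : G) (k : ℕ) : I X h k 1 k = X := by
  rw [I, sub_self, sub_self, T_zero_zero]

lemma I_prev (X : Subgroup G) (h : G) (k : ℕ) : I X h k 0 (k - 1 : ℤ) = cj h⁻¹ X := by
  have := cj_T (X := X) (h := h) (-1) 0 0
  rw [T_zero_zero, zpow_neg_one] at this
  rw [this, I]
  congr 1; omega

lemma I_next (X : Subgroup G) (h : G) (k : ℕ) : I X h k 2 (k + 1 : ℤ) = cj h X := by
  have := cj_T (X := X) (h := h) 1 0 0
  rw [T_zero_zero, zpow_one] at this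
  rw [this, I]
  congr 1; omega

lemma Gens.le_H (g : Gens H N X h k z) {S : Subgroup G} (hS : ∀ l : ℤ, 0 ≤ l → l ≤ k → z l ∈ S) :
    H ≤ S := by
  rw [← g.data.genH, ← I_prev X h k]
  exact sup_le (g.I_le' (by omega) fun l h1 h2 => hS l h1 (by omega))
    (I_X X h k ▸ g.I_le' (by omega) fun l h1 h2 => hS l (by omega) (by omega))

lemma Gens.le_N (g : Gens H N X h k z) {S : Subgroup G} (hS : ∀ l : ℤ, 1 ≤ l → l ≤ k + 1 → z l ∈ S) :
    N ≤ S := by
  rw [← g.data.genN, ← I_next X h k]
  exact sup_le (I_X X h k ▸ g.I_le' (by omega) fun l h1 h2 => hS l h1 (by omega))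
    (g.I_le' (by omega) fun l h1 h2 => hS l (by omega) (by omega))

lemma Gens.mem_H (g : Gens H N X h k z) {l : ℤ} (h1 : 0 ≤ l) (h2 : l ≤ k) : z l ∈ H := by
  rw [← g.data.genH, ← I_prev X h k]
  rcases eq_or_ne l 0 with rfl | hl
  · exact mem_sup_left (g.mem_I le_rfl (by have := g.kpos; omega))
  · exact mem_sup_right (by rw [← I_X X h k]; exact g.mem_I (by omega) h2)

/-- `D` is normalized by `z l` as soon as the conjugates of its generators lie in it. -/
lemma Gens.mem_nz (g : Gens H N X h k z) {a b l : ℤ} (hk : b + 1 ≤ a + k)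
    (hS : ∀ j : ℤ, a ≤ j → j ≤ b → z l * z j * z l ∈ I X h k a b) :
    z l ∈ normalizer (I X h k a b : Set G) := by
  have hinv : (z l)⁻¹ = z l := inv_eq_of_mul_eq_one_right (g.sq l)
  have h1 : cj (z l) (I X h k a b) ≤ I X h k a b := by
    rw [cj, map_le_iff_le_comap]
    refine g.I_le' hk fun j h1 h2 => ?_
    have := hS j h1 h2
    simpa [hinv] using this
  exact mem_nz_of_cj_eq (eq_of_le_of_card_ge h1 (card_cj _ _).ge)

lemma Gens.exists_dist (g : Gens H N X h k z) : ∃ m : ℕ, Dist z m ∧ m ≤ k := by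
  classical
  have hk := g.kpos
  have h0k : ¬ Commute (z 0) (z k) := by
    intro hc
    have hnz : X ≤ normalizer (cj h⁻¹ X : Set G) := by
      rw [← I_prev X h k]
      refine (I_X X h k).ge.trans ?_
      refine g.I_le' (by omega) fun l h1 h2 => ?_
      rcases lt_or_eq_of_le h2 with h3 | rfl
      · exact le_normalizer (g.mem_I (by omega) (by omega))
      refine g.mem_nz (by omega) fun j h3 h4 => ?_
      rcases eq_or_ne j 0 with rfl | hj
      · rw [hc.symm.eq, mul_assoc, g.sq, mul_one]; exact g.mem_I le_rfl (by omega)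
      · have hP : ((I X h k 1 (k - 1)).subgroupOf (I X h k 1 k)).Normal := by
          refine normal_of_index_eq_two ?_
          have := card_mul_relIndex' (I_mono (X := X) (h := h) (k := k) (a := 1) (a' := 1)
            (b := (k : ℤ) - 1) (b' := k) le_rfl (by omega))
          rw [g.card_I (by omega) (by omega), g.card_I (by omega) (by omega),
            show ((k : ℤ) + 1 - 1).toNat = ((k : ℤ) - 1 + 1 - 1).toNat + 1 by omega, pow_succ] at this
          exact mul_left_cancel₀ (pow_ne_zero _ two_ne_zero) this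
        have h5 := hP.conj_mem ⟨z j, g.mem_I (by omega) (by omega)⟩ (g.mem_I (a := 1) (by omega) h4)
          ⟨z k, g.mem_I (by omega) le_rfl⟩
        refine I_mono (a := 1) (by omega) le_rfl ?_
        rw [mem_subgroupOf] at h5
        simpa [inv_eq_of_mul_eq_one_right (g.sq k)] using h5
    have h2 : IsPGroup 2 ↥(cj h⁻¹ X ⊔ X) :=
      (Cfsg.Agent.Lib.Components.isCoreClass_pGroup 2).sup _ _ hnz (g.data.isTwo.map _) g.data.isTwo
    rw [g.data.genH] at h2
    exact g.data.notTwo h2
  have hex : ∃ d : ℕ, ¬ Commute (z 0) (z d) := ⟨k, h0k⟩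
  set m := Nat.find hex with hm
  have hpos : 1 ≤ m := by
    by_contra h0
    have := Nat.find_spec hex
    rw [← hm, show m = 0 by omega] at this
    exact this (Commute.refl _)
  refine ⟨m, ⟨hpos, ?_, ?_⟩, Nat.find_min' hex h0k⟩
  · have key : ∀ i j : ℤ, i ≤ j → j - i < m → Commute (z i) (z j) := by
      intro i j hij hlt
      have h1 : Commute (z 0) (z ((j - i).toNat : ℕ)) := by
        by_contra hc
        have := Nat.find_min' hex hc
        omega
      have h2 := g.commute_shift i h1
      rwa [zero_add, show ((j - i).toNat : ℤ) + i = j by omega] at h2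
    intro i j h1 h2
    rcases le_total i j with h3 | h3
    · exact key i j h3 h1
    · exact (key j i h3 h2).symm
  · intro i hc
    have h2 := g.commute_shift (-i) hc
    rw [add_neg_cancel, show i + m + -i = (m : ℤ) by omega] at h2
    exact Nat.find_spec hex h2

lemma Gens.le_two_mul (g : Gens H N X h k z) (d : Dist z m) : k + 1 ≤ 2 * m := by
  by_contra hc
  have hm := d.pos
  set Y := I X h k 1 (2 * m : ℕ)
  have hYX : Y ≤ X := (I_mono le_rfl (by omega)).trans_eq (I_X X h k)
  have hY : IsPGroup 2 ↥Y := g.data.isTwo.to_le hYX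
  have hYn : Nontrivial ↥Y := by
    refine (Subgroup.nontrivial_iff_ne_bot _).2 fun e => ?_
    have := g.card_I (a := 1) (b := (2 * m : ℕ)) (by omega) (by omega)
    rw [show I X h k 1 (2 * m : ℕ) = Y from rfl, e, card_bot] at this
    have h2 := Nat.one_lt_pow (n := ((2 * m : ℕ) + 1 - 1 : ℤ).toNat) (by omega) one_lt_two
    omega
  haveI := hY.center_nontrivial
  obtain ⟨⟨w, hwc⟩, hw1⟩ := exists_ne (1 : ↥(center ↥Y))
  have hw : (w : G) ∈ Y := w.2
  have h1 := g.central_le d (by omega) (by omega) hw fun l h1 h2 =>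
    congrArg Subtype.val (mem_center_iff.1 hwc ⟨z l, g.mem_I h1 h2⟩)
  have h3 : (w : G) ∈ I X h k (max 1 ((2 * m : ℕ) - m + 1)) (2 * m : ℕ) ⊓
      I X h k 1 (min (2 * m : ℕ) (1 + m - 1)) := h1
  rw [I_inf (by omega) (by omega), g.I_eq_bot (by omega), mem_bot] at h3
  exact hw1 (Subtype.ext (Subtype.ext h3))

lemma Gens.two_mul_le (g : Gens H N X h k z) (d : Dist z m) (hmk : m ≤ k) : 2 * m ≤ k + 2 := by
  by_contra hc
  set i : ℤ := k - m + 2 with hi
  have hX : zpowers (z i) ≤ X := by
    rw [zpowers_le, ← I_X X h k]; exact g.mem_I (by omega) (by omega)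
  have key : ∀ l : ℤ, 0 ≤ l → l ≤ k + 1 → z l ∈ normalizer (zpowers (z i) : Set G) := by
    intro l h1 h2
    refine Subgroup.centralizer_le_normalizer _ (mem_centralizer_iff.2 ?_)
    rintro _ ⟨n, rfl⟩
    exact ((d.comm i l (by omega) (by omega)).zpow_left n).eq
  have := g.data.nobot _ hX (g.le_H fun l h1 h2 => key l h1 (by omega))
    (g.le_N fun l h1 h2 => key l (by omega) h2)
  exact g.ne i (by simpa [zpowers_eq_bot] using this)

lemma Gens.conj_central (g : Gens H N X h k z) (d : Dist z m) (hmk : m ≤ k) (hk2 : k + 1 ≤ 2 * m)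
    (hm3 : 3 ≤ m) :
    z 0 * z m * z 0 * z m ∈ I X h k (k - m) m ∧ z 0 * z m * z 0 * z m ∈ I X h k 0 (2 * m - k : ℤ) := by
  have hk1 : m + 1 ≤ k := by
    by_contra hc
    have := g.two_mul_le d hmk
    omega
  have hnP : ∀ a : ℤ, (a = 0 ∨ a = k) → z a ∈ normalizer (I X h k 1 (k - 1) : Set G) := by
    intro a ha
    rcases ha with rfl | rfl
    · have hle := I_mono (X := X) (h := h) (k := k) (a := 1) (b := (k : ℤ) - 1) (a' := 0)
        (b' := (k : ℤ) - 1) (by omega) le_rfl
      have hn : ((I X h k 1 ((k : ℤ) - 1)).subgroupOf (I X h k 0 ((k : ℤ) - 1))).Normal := by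
        refine normal_of_index_eq_two ?_
        have := card_mul_relIndex' hle
        rw [g.card_I (by omega) (by omega), g.card_I (by omega) (by omega),
          show ((k : ℤ) - 1 + 1 - 0).toNat = ((k : ℤ) - 1 + 1 - 1).toNat + 1 by omega, pow_succ] at this
        exact mul_left_cancel₀ (pow_ne_zero _ two_ne_zero) this
      exact (normal_subgroupOf_iff_le_normalizer hle).1 hn (g.mem_I le_rfl (by omega))
    · have hle := I_mono (X := X) (h := h) (k := k) (a := 1) (b := (k : ℤ) - 1) (a' := 1)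
        (b' := (k : ℤ)) le_rfl (by omega)
      have hn : ((I X h k 1 ((k : ℤ) - 1)).subgroupOf (I X h k 1 k)).Normal := by
        refine normal_of_index_eq_two ?_
        have := card_mul_relIndex' hle
        rw [g.card_I (by omega) (by omega), g.card_I (by omega) (by omega),
          show ((k : ℤ) + 1 - 1).toNat = ((k : ℤ) - 1 + 1 - 1).toNat + 1 by omega, pow_succ] at this
        exact mul_left_cancel₀ (pow_ne_zero _ two_ne_zero) this
      exact (normal_subgroupOf_iff_le_normalizer hle).1 hn (g.mem_I (by omega) le_rfl)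
  -- conjugates of central elements of `I 1 (k-1)` are central
  have hcen : ∀ a c : ℤ, (a = 0 ∨ a = k) → 1 ≤ c → c ≤ k - 1 → (∀ l : ℤ, 1 ≤ l → l ≤ (k : ℤ) - 1 →
      Commute (z l) (z c)) → z a * z c * z a * z c ∈ I X h k (k - m) m := by
    intro a c ha hc1 hc2 hcc
    have hinv : (z a)⁻¹ = z a := inv_eq_of_mul_eq_one_right (g.sq a)
    have hP : z a * z c * z a ∈ I X h k 1 (k - 1) := by
      have := (mem_normalizer_iff.1 (hnP a ha) (z c)).1 (g.mem_I hc1 hc2)
      rwa [hinv] at this
    have h1 := g.central_le d (a := 1) (b := (k : ℤ) - 1) (by omega) (by omega)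
      (mul_mem hP (g.mem_I hc1 hc2)) fun l h1 h2 => by
        refine Commute.mul_right ?_ (hcc l h1 h2)
        have hl : z a * z l * z a ∈ I X h k 1 (k - 1) := by
          have := (mem_normalizer_iff.1 (hnP a ha) (z l)).1 (g.mem_I h1 h2)
          rwa [hinv] at this
        have h3 : Commute (z a * z l * z a) (z c) := g.commute_of_I (by omega) hcc hl
        have h4 := h3.map (MulAut.conj (z a)).toMonoidHom
        simp only [MulEquiv.coe_toMonoidHom, MulAut.conj_apply, hinv] at h4
        rwa [show z a * (z a * z l * z a) * z a = z l by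
          rw [show z a * (z a * z l * z a) * z a = z a * z a * z l * (z a * z a) by simp only [mul_assoc],
            g.sq, one_mul, mul_one]] at h4
    have h5 : z a * z c * z a * z c ∈ I X h k (max 1 ((k : ℤ) - 1 - m + 1)) ((k : ℤ) - 1) ⊓
        I X h k 1 (min ((k : ℤ) - 1) (1 + m - 1)) := h1
    rw [I_inf (by omega) (by omega)] at h5
    exact I_mono (by omega) (by omega) h5
  refine ⟨hcen 0 m (Or.inl rfl) (by omega) (by omega) fun l h1 h2 => d.comm _ _ (by omega) (by omega), ?_⟩
  have h1 := hcen k (k - m) (Or.inr rfl) (by omega) (by omega)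
    fun l h1 h2 => d.comm _ _ (by omega) (by omega)
  have h2 : z k * z (k - m) * z k * z (k - m) =
      (z (k - m) * z k * z (k - m) * z k)⁻¹ := by
    simp only [mul_inv_rev, inv_eq_of_mul_eq_one_right (g.sq _), mul_assoc]
  rw [h2] at h1
  have h3 := Cfsg.Agent.Lib.LocalChar.conj_mem_cj (g := h ^ (-((k : ℤ) - m))) (inv_mem h1)
  rw [inv_inv] at h3
  have e : h ^ (-((k : ℤ) - m)) * (z (k - m) * z k * z (k - m) * z k) * (h ^ (-((k : ℤ) - m)))⁻¹ =
      z 0 * z m * z 0 * z m := by
    have e0 := g.shift (k - m : ℤ) (-((k : ℤ) - m))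
    have e1 := g.shift (k : ℤ) (-((k : ℤ) - m))
    rw [show (k - m : ℤ) + -((k : ℤ) - m) = 0 by omega] at e0
    rw [show (k : ℤ) + -((k : ℤ) - m) = m by omega] at e1
    rw [← e0, ← e1]
    simp only [mul_assoc, inv_mul_cancel_left]
  rw [e, I, cj_T] at h3
  rw [I]
  convert h3 using 2 <;> omega

/-- The bound of Sims. -/
theorem Gens.bound (g : Gens H N X h k z) (d : Dist z m) (hmk : m ≤ k) :
    (k = 1 ∧ m = 1) ∨ (k = 2 ∧ m = 2) ∨ (k = 3 ∧ m = 2) ∨ (k = 4 ∧ m = 3) := by
  have h1 := g.le_two_mul d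
  have h2 := g.two_mul_le d hmk
  have hm := d.pos
  rcases Nat.lt_or_ge m 3 with hm3 | hm3
  · omega
  rcases eq_or_ne m 3 with rfl | hm3'
  · rcases eq_or_ne k 4 with rfl | hk4
    · omega
    · exfalso
      obtain ⟨ha, hb⟩ := g.conj_central d hmk (by omega) le_rfl
      obtain rfl : k = 5 := by omega
      have hy : z 0 * z (3 : ℕ) * z 0 * z (3 : ℕ) ∈ I X h 5 (((5 : ℕ) : ℤ) - (3 : ℕ)) (3 : ℕ) ⊓
          I X h 5 0 (2 * (3 : ℕ) - (5 : ℕ) : ℤ) := ⟨ha, hb⟩
      rw [I_inf (by omega) (by omega), g.I_eq_bot (by omega), mem_bot] at hy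
      refine d.ncomm 0 ?_
      rw [zero_add]
      show z 0 * z (3 : ℕ) = z (3 : ℕ) * z 0
      have h4 := eq_inv_of_mul_eq_one_left (show z 0 * z (3 : ℕ) * (z 0 * z (3 : ℕ)) = 1 by
        rw [← mul_assoc]; exact hy)
      rwa [mul_inv_rev, inv_eq_of_mul_eq_one_right (g.sq _), inv_eq_of_mul_eq_one_right (g.sq _)] at h4
  exfalso
  obtain ⟨ha, hb⟩ := g.conj_central d hmk (by omega) hm3
  have hy : z 0 * z m * z 0 * z m ∈ I X h k (k - m) m ⊓ I X h k 0 (2 * m - k : ℤ) := ⟨ha, hb⟩
  rw [I_inf (by omega) (by omega)] at hy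
  have hcomm : z 0 * z m * z 0 * z m = 1 → False := by
    intro e
    refine d.ncomm 0 ?_
    rw [zero_add]
    show z 0 * z m = z m * z 0
    have h4 := eq_inv_of_mul_eq_one_left (show z 0 * z m * (z 0 * z m) = 1 by
      rw [← mul_assoc]; exact e)
    rwa [mul_inv_rev, inv_eq_of_mul_eq_one_right (g.sq _), inv_eq_of_mul_eq_one_right (g.sq _)] at h4
  by_cases hk : k = 2 * m - 2 ∧ m = 4
  swap
  · rw [g.I_eq_bot (by omega), mem_bot] at hy
    exact hcomm hy
  obtain ⟨rfl, rfl⟩ := hk
  have hy2 : z 0 * z 4 * z 0 * z 4 ∈ I X h (2 * 4 - 2) 2 2 := by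
    refine I_mono ?_ ?_ hy <;> push_cast <;> omega
  -- the commutator of `z 0` and `z 5`
  have hs : z 0 * z 5 * z 0 * z 5 ∈ I X h (2 * 4 - 2) 2 3 := by
    set s := z 0 * z 5 * z 0 * z 5 with hsdef
    have hinv : ∀ l, (z l)⁻¹ = z l := fun l => inv_eq_of_mul_eq_one_right (g.sq l)
    have hn : ∀ a b : ℤ, 0 ≤ a → b ≤ 5 → b + 1 - a = 5 →
        ((I X h (2 * 4 - 2) a b).subgroupOf (I X h (2 * 4 - 2) 0 5)).Normal := by
      intro a b ha hb hab
      refine normal_of_index_eq_two ?_
      have := card_mul_relIndex' (I_mono (X := X) (h := h) (k := 2 * 4 - 2) ha hb)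
      rw [g.card_I (by omega) (by omega), g.card_I (by omega) (by omega),
        show ((5 : ℤ) + 1 - 0).toNat = (b + 1 - a).toNat + 1 by omega, pow_succ] at this
      exact mul_left_cancel₀ (pow_ne_zero _ two_ne_zero) this
    have hs1 : s ∈ I X h (2 * 4 - 2) 1 4 := by
      have h0 : z 0 ∈ I X h (2 * 4 - 2) 0 5 := g.mem_I le_rfl (by omega)
      have h5 : z 5 ∈ I X h (2 * 4 - 2) 0 5 := g.mem_I (by omega) le_rfl
      have a1 := (hn 1 5 (by omega) le_rfl (by omega)).conj_mem ⟨z 5, h5⟩
        (g.mem_I (a := 1) (by omega) le_rfl) ⟨z 0, h0⟩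
      have a2 := (hn 0 4 le_rfl (by omega) (by omega)).conj_mem ⟨z 0, h0⟩
        (g.mem_I (a := 0) (b := 4) le_rfl (by omega)) ⟨z 5, h5⟩
      simp only [mem_subgroupOf, coe_mul, coe_inv, hinv] at a1 a2
      have b1 : s ∈ I X h (2 * 4 - 2) 1 5 := mul_mem a1 (g.mem_I (by omega) le_rfl)
      have b2 : s ∈ I X h (2 * 4 - 2) 0 4 := by
        rw [hsdef, show z 0 * z 5 * z 0 * z 5 = z 0 * (z 5 * z 0 * z 5) by simp only [mul_assoc]]
        exact mul_mem (g.mem_I le_rfl (by omega)) a2
      have b3 : s ∈ I X h (2 * 4 - 2) 1 5 ⊓ I X h (2 * 4 - 2) 0 4 := ⟨b1, b2⟩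
      rw [I_inf (by omega) (by omega)] at b3
      exact I_mono (by omega) (by omega) b3
    have hsq : s * s = 1 := by
      have hgen : ∀ l : ℤ, 1 ≤ l → l ≤ 4 → Commute (z l) s := fun l h1 h2 =>
        (g.commute_of_I (by omega) (fun j h3 h4 => d.comm j l (by omega) (by omega)) hs1).symm
      have : I X h (2 * 4 - 2) 1 4 ≤ centralizer {s} := g.I_le' (by omega) fun l h1 h2 =>
        mem_centralizer_singleton_iff.2 (hgen l h1 h2)
      -- the interval is generated by commuting involutions
      have h' : ∀ w ∈ I X h (2 * 4 - 2) 1 4, w * w = 1 ∧ w ∈ I X h (2 * 4 - 2) 1 4 := by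
        intro w hw
        refine ⟨?_, hw⟩
        let A : Subgroup G :=
          { carrier := {w | w * w = 1 ∧ w ∈ I X h (2 * 4 - 2) 1 4}
            one_mem' := ⟨one_mul 1, one_mem _⟩
            mul_mem' := by
              rintro u v ⟨hu, hu'⟩ ⟨hv, hv'⟩
              refine ⟨?_, mul_mem hu' hv'⟩
              have huv : Commute v u := g.commute_of_I (by omega) (fun l h1 h2 =>
                (g.commute_of_I (by omega) (fun j h3 h4 => d.comm j l (by omega) (by omega)) hu').symm) hv'
              calc u * v * (u * v) = u * (v * u) * v := by simp only [mul_assoc]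
                _ = u * u * (v * v) := by rw [huv.eq]; simp only [mul_assoc]
                _ = 1 := by rw [hu, hv, one_mul]
            inv_mem' := by
              rintro u ⟨hu, hu'⟩
              exact ⟨by rw [← mul_inv_rev, hu, inv_one], inv_mem hu'⟩ }
        exact (g.I_le' (S := A) (by omega) (fun l h1 h2 => ⟨g.sq l, g.mem_I h1 h2⟩) hw).1
      exact (h' s hs1).1
    have hsinv : s⁻¹ = s := inv_eq_of_mul_eq_one_right hsq
    have c0 : Commute s (z 0) := by
      show s * z 0 = z 0 * s
      have e : z 0 * s * z 0 = s⁻¹ := by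
        simp only [hsdef, mul_inv_rev, hinv, ← mul_assoc, g.sq, one_mul]
      calc s * z 0 = (z 0 * s * z 0) * z 0 := by rw [e, hsinv]
        _ = z 0 * s := by rw [mul_assoc, g.sq, mul_one]
    have c5 : Commute s (z 5) := by
      show s * z 5 = z 5 * s
      have e : z 5 * s * z 5 = s⁻¹ := by
        rw [hsdef]
        simp only [mul_inv_rev, hinv, mul_assoc, g.sq, mul_one]
      calc s * z 5 = (z 5 * s * z 5) * z 5 := by rw [e, hsinv]
        _ = z 5 * s := by rw [mul_assoc, g.sq, mul_one]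
    have s13 : s ∈ I X h (2 * 4 - 2) 1 3 := by
      by_contra hcn
      have h3 := g.mul_mem_pred (b := 4) (by omega) (by omega) hs1 (by simpa using hcn)
      have h4 : Commute (s * z 4) (z 0) :=
        g.commute_of_I (by omega) (fun l h1 h2 => d.comm l 0 (by omega) (by omega)) h3
      have h5 := c0.inv_left.mul_left h4
      rw [inv_mul_cancel_left] at h5
      exact d.ncomm 0 (by simpa using h5.symm)
    have s24 : s ∈ I X h (2 * 4 - 2) 2 4 := by
      by_contra hcn
      have h3 := g.mul_mem_succ (a := 1) (by omega) (by omega) hs1 (by simpa using hcn)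
      have h4 : Commute (z 1 * s) (z 5) :=
        g.commute_of_I (by omega) (fun l h1 h2 => d.comm l 5 (by omega) (by omega)) h3
      have h5 := h4.mul_left c5.inv_left
      rw [mul_inv_cancel_right] at h5
      exact d.ncomm 1 (by simpa using h5)
    have b3 : s ∈ I X h (2 * 4 - 2) 1 3 ⊓ I X h (2 * 4 - 2) 2 4 := ⟨s13, s24⟩
    rw [I_inf (by omega) (by omega)] at b3
    exact I_mono (by omega) (by omega) b3
  -- `I 2 5` is normalized by every `z l`, `0 ≤ l ≤ 7`
  have key : ∀ l : ℤ, 0 ≤ l → l ≤ 7 → z l ∈ normalizer (I X h (2 * 4 - 2) 2 5 : Set G) := by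
    intro l h0 h7
    rcases eq_or_ne l 0 with rfl | hl0
    · refine g.mem_nz (by omega) fun j h3 h4 => ?_
      rcases lt_or_ge j 4 with hj | hj
      · rw [(d.comm 0 j (by omega) (by omega)).eq, mul_assoc, g.sq, mul_one]
        exact g.mem_I h3 h4
      · rcases eq_or_ne j 4 with rfl | hj4
        · have := mul_mem (I_mono (a' := 2) (b' := 5) le_rfl (by omega) hy2)
            (g.mem_I (a := 2) (b := 5) (i := 4) (by omega) (by omega))
          simpa [mul_assoc, g.sq] using this
        · obtain rfl : j = 5 := by omega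
          have := mul_mem (I_mono (a' := 2) (b' := 5) le_rfl (by omega) hs)
            (g.mem_I (a := 2) (b := 5) (i := 5) (by omega) (by omega))
          simpa [mul_assoc, g.sq] using this
    rcases eq_or_ne l 7 with rfl | hl7
    · refine g.mem_nz (by omega) fun j h3 h4 => ?_
      rcases lt_or_ge 3 j with hj | hj
      · rw [(d.comm 7 j (by omega) (by omega)).eq, mul_assoc, g.sq, mul_one]
        exact g.mem_I h3 h4
      · rcases eq_or_ne j 3 with rfl | hj3
        · have h1 := Cfsg.Agent.Lib.LocalChar.conj_mem_cj (g := h ^ (3 : ℤ)) hy2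
          rw [I, cj_T] at h1
          have e : h ^ (3 : ℤ) * (z 0 * z 4 * z 0 * z 4) * (h ^ (3 : ℤ))⁻¹ = z 3 * z 7 * z 3 * z 7 := by
            have e0 := g.shift 0 3
            have e1 := g.shift 4 3
            rw [zero_add] at e0
            rw [show (4 : ℤ) + 3 = 7 by norm_num] at e1
            rw [← e0, ← e1]
            simp only [mul_assoc, inv_mul_cancel_left]
          rw [e] at h1
          have h1' : z 3 * z 7 * z 3 * z 7 ∈ I X h (2 * 4 - 2) 2 5 := T_mono (by omega) (by omega) h1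
          have := mul_mem (g.mem_I (a := 2) (b := 5) (i := 3) (by omega) (by omega)) h1'
          simpa [← mul_assoc, g.sq] using this
        · obtain rfl : j = 2 := by omega
          have h1 := Cfsg.Agent.Lib.LocalChar.conj_mem_cj (g := h ^ (2 : ℤ)) hs
          rw [I, cj_T] at h1
          have e : h ^ (2 : ℤ) * (z 0 * z 5 * z 0 * z 5) * (h ^ (2 : ℤ))⁻¹ = z 2 * z 7 * z 2 * z 7 := by
            have e0 := g.shift 0 2
            have e1 := g.shift 5 2
            rw [zero_add] at e0
            rw [show (5 : ℤ) + 2 = 7 by norm_num] at e1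
            rw [← e0, ← e1]
            simp only [mul_assoc, inv_mul_cancel_left]
          rw [e] at h1
          have h1' : z 2 * z 7 * z 2 * z 7 ∈ I X h (2 * 4 - 2) 2 5 := T_mono (by omega) (by omega) h1
          have := mul_mem (g.mem_I (a := 2) (b := 5) (i := 2) (by omega) (by omega)) h1'
          simpa [← mul_assoc, g.sq] using this
    have hle5 : ∀ a b : ℤ, 1 ≤ a → b ≤ 6 → b + 1 - a = 5 →
        z l ∈ normalizer (I X h (2 * 4 - 2) a b : Set G) := by
      intro a b ha hb hab
      have hle := I_mono (X := X) (h := h) (k := 2 * 4 - 2) ha hb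
      have hn : ((I X h (2 * 4 - 2) a b).subgroupOf (I X h (2 * 4 - 2) 1 6)).Normal := by
        refine normal_of_index_eq_two ?_
        have := card_mul_relIndex' hle
        rw [g.card_I (by omega) (by omega), g.card_I (by omega) (by omega),
          show ((6 : ℤ) + 1 - 1).toNat = (b + 1 - a).toNat + 1 by omega, pow_succ] at this
        exact mul_left_cancel₀ (pow_ne_zero _ two_ne_zero) this
      exact (normal_subgroupOf_iff_le_normalizer hle).1 hn (g.mem_I (by omega) (by omega))
    have := inf_normalizer_le_normalizer_inf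
      (⟨hle5 1 5 le_rfl (by omega) (by omega), hle5 2 6 (by omega) le_rfl (by omega)⟩ :
        z l ∈ normalizer (I X h (2 * 4 - 2) 1 5 : Set G) ⊓ normalizer (I X h (2 * 4 - 2) 2 6 : Set G))
    rw [I_inf (by omega) (by omega)] at this
    exact this
  have hX : I X h (2 * 4 - 2) 2 5 ≤ X :=
    (I_mono (by omega) (by omega)).trans_eq (I_X X h _)
  have h0 := g.data.nobot _ hX (g.le_H fun l h1 h2 => key l h1 (by omega))
    (g.le_N fun l h1 h2 => key l (by omega) (by omega))
  have := g.card_I (a := 2) (b := 5) (by omega) (by omega)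
  rw [h0, card_bot] at this
  simp at this

end Cfsg.Agent.Lib.SimsThree
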