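import Mathlib
import Cfsg.Agent.Lib.Components.Local

/-!
Recognising `S₃`, `S₄` and the split product with a group of order two.
-/

set_option autoImplicit false
set_option linter.unusedSectionVars false

namespace Cfsg.Agent.Lib.SimsThree

open Subgroup

variable {K : Type*} [Group K] [Finite K]

/-- A faithful action on the cosets of a subgroup with trivial core. -/
theorem perm_of_core (L : Subgroup K) {n : ℕ} (hn : L.index = n) (hcore : L.normalCore = ⊥)
    (hcard : Nat.card K = n.factorial) : Nonempty (K ≃* Equiv.Perm (Fin n)) := by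
  let f := MulAction.toPermHom K (K ⧸ L)
  have hinj : Function.Injective f :=
    (MonoidHom.ker_eq_bot_iff f).1 (by rw [← normalCore_eq_ker, hcore])
  have hb : Function.Bijective f := (Nat.bijective_iff_injective_and_card f).2
    ⟨hinj, by rw [hcard, Nat.card_perm, ← index_eq_card, hn]⟩
  exact ⟨(MulEquiv.ofBijective f hb).trans
    (Equiv.permCongrHom (Finite.equivFinOfCardEq (by rw [← index_eq_card, hn])))⟩

/-- Two elements acting on a four-group as different transvections. -/
theorem centralizer_four_index (W : Subgroup K) [W.Normal] (hW : Nat.card ↥W = 4) {u v a b : K}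
    (hu : u ∈ W) (hv : v ∈ W) (hu1 : u ≠ 1) (hau : a * u * a⁻¹ = u)
    (hav : a * v * a⁻¹ = u * v) (hbu : b * u * b⁻¹ = u * v) (hbv : b * v * b⁻¹ = v)
    (ha2 : a * a = 1) (hb2 : b * b = 1) :
    (centralizer (W : Set K)).index = 6 := by
  classical
  let Ω := {x : ↥W // x ≠ 1}
  have hpres : ∀ (k : K) (x : ↥W), MulAut.conjNormal k x ≠ 1 ↔ x ≠ 1 := fun k x => by simp
  let f : K →* Equiv.Perm Ω :=
    { toFun := fun k => Equiv.subtypeEquiv (MulAut.conjNormal k).toEquiv fun x => (hpres k x).symm
      map_one' := by ext x; simp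
      map_mul' := fun k l => by ext x; simp [mul_assoc] }
  have hf : ∀ (k : K) (x : Ω), (((f k x : Ω) : ↥W) : K) = k * ((x : ↥W) : K) * k⁻¹ := fun k x =>
    MulAut.conjNormal_apply k (x : ↥W)
  have hker : f.ker = centralizer (W : Set K) := by
    ext k
    rw [MonoidHom.mem_ker, mem_centralizer_iff]
    constructor
    · intro hk x hx
      by_cases hx1 : x = 1
      · simp [hx1]
      have h1 := hf k ⟨⟨x, hx⟩, fun e => hx1 (congrArg Subtype.val e)⟩
      rw [hk] at h1
      exact eq_mul_inv_iff_mul_eq.1 h1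
    · intro hk
      refine Equiv.ext fun x => Subtype.ext (Subtype.ext ?_)
      rw [hf, ← hk _ (x : ↥W).2, mul_inv_cancel_right]
      rfl
  have hcΩ : Nat.card Ω = 3 := by
    haveI := Fintype.ofFinite ↥W
    rw [Nat.card_eq_fintype_card, Fintype.card_subtype_compl, Fintype.card_subtype_eq,
      ← Nat.card_eq_fintype_card, hW]
  rw [← hker, index_ker]
  have hdvd : Nat.card f.range ∣ 6 := by
    have := card_subgroup_dvd_card f.range
    rwa [Nat.card_perm, hcΩ] at this
  have haC : f a ≠ 1 := fun e => by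
    have h1 := hf a ⟨⟨v, hv⟩, fun e' => hu1 (by
      have hv1 : v = 1 := congrArg Subtype.val e'
      have h := hbu
      rw [hv1, mul_one] at h
      have h' := hav
      rw [hv1, mul_one, mul_one, mul_inv_cancel] at h'
      exact h'.symm)⟩
    rw [e] at h1
    exact hu1 (by simpa [hav] using h1)
  have hb1 : f b ≠ 1 ∧ f a ≠ f b := by
    have hu' : (⟨u, hu⟩ : ↥W) ≠ 1 := fun e => hu1 (congrArg Subtype.val e)
    have hv1 : v ≠ 1 := fun e => by
      rw [e, mul_one] at hav
      simp at hav
      exact hu1 hav.symm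
    constructor
    · intro e
      have h1 := hf b ⟨⟨u, hu⟩, hu'⟩
      rw [e] at h1
      exact hv1 (by simpa [hbu] using h1)
    · intro e
      have h1 := hf a ⟨⟨u, hu⟩, hu'⟩
      have h2 := hf b ⟨⟨u, hu⟩, hu'⟩
      rw [e, h2] at h1
      exact hv1 (by simpa [hbu, hau] using h1)
  have h2 : 2 ∣ Nat.card f.range := by
    have : orderOf (⟨f a, a, rfl⟩ : f.range) = 2 := by
      refine orderOf_eq_prime (by rw [pow_two]; exact Subtype.ext (by simp [← map_mul, ha2])) ?_
      exact fun e => haC (congrArg Subtype.val e)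
    rw [← this]; exact orderOf_dvd_natCard _
  have h3 : Nat.card f.range ≠ 2 := by
    intro e
    have := (Nat.card_eq_two_iff' (1 : f.range)).1 e
    obtain ⟨x, -, hx⟩ := this
    exact hb1.2 (congrArg Subtype.val ((hx ⟨f a, a, rfl⟩ fun e' => haC (congrArg Subtype.val e')).trans
      (hx ⟨f b, b, rfl⟩ fun e' => hb1.1 (congrArg Subtype.val e')).symm))
  obtain ⟨q, hq⟩ := h2
  rw [hq] at hdvd h3 ⊢
  have : q ∣ 3 := Nat.dvd_of_mul_dvd_mul_left two_pos hdvd
  rcases (Nat.dvd_prime Nat.prime_three).1 this with rfl | rfl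
  · exact absurd rfl h3
  · rfl

/-- Recognition of `S₄`. -/
theorem perm_four (W : Subgroup K) [W.Normal] (hW : Nat.card ↥W = 4) (hK : Nat.card K = 24)
    {u v a b : K} (hu : u ∈ W) (hv : v ∈ W) (hu1 : u ≠ 1) (hau : a * u * a⁻¹ = u)
    (hav : a * v * a⁻¹ = u * v) (hbu : b * u * b⁻¹ = u * v) (hbv : b * v * b⁻¹ = v)
    (ha2 : a * a = 1) (hb2 : b * b = 1) : Nonempty (K ≃* Equiv.Perm (Fin 4)) := by
  classical
  haveI : Fact (Nat.Prime 3) := ⟨Nat.prime_three⟩
  haveI : Fact (Nat.Prime 2) := ⟨Nat.prime_two⟩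
  have hv1 : v ≠ 1 := fun e => by
    rw [e, mul_one] at hav
    simp at hav
    exact hu1 hav.symm
  have hcomm : IsMulCommutative ↥W := IsPGroup.isMulCommutative_of_card_eq_prime_sq (p := 2) hW
  have hC : centralizer (W : Set K) = W := by
    refine (eq_of_le_of_card_ge (le_centralizer W) ?_).symm
    have h1 := (centralizer (W : Set K)).card_mul_index
    rw [centralizer_four_index W hW hu hv hu1 hau hav hbu hbv ha2 hb2, hK] at h1
    omega
  obtain ⟨P⟩ : Nonempty (Sylow 3 K) := inferInstance
  have hP : Nat.card ↥(P : Subgroup K) = 3 := by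
    rw [Sylow.card_eq_multiplicity, hK, show (24 : ℕ) = 2 ^ 3 * 3 from rfl,
      Nat.factorization_mul (by norm_num) (by norm_num), Nat.prime_two.factorization_pow,
      Nat.prime_three.factorization]
    simp
  have hPW : (P : Subgroup K) ⊓ W = ⊥ := card_eq_one.1 (Nat.eq_one_of_dvd_coprimes
    (a := 3) (b := 4) (by norm_num) ((card_dvd_of_le inf_le_left).trans hP.dvd) ((card_dvd_of_le inf_le_right).trans hW.dvd))
  set N := normalizer ((P : Subgroup K) : Set K) with hN
  have hidx : N.index = 4 := by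
    have h1 := P.card_dvd_index
    have h2 := card_sylow_modEq_one 3 K
    rw [P.card_eq_index_normalizer] at h1 h2
    replace h1 : N.index ∣ (P : Subgroup K).index := h1
    replace h2 : N.index ≡ 1 [MOD 3] := h2
    have h3 := (P : Subgroup K).card_mul_index
    rw [hP, hK] at h3
    have h4 : (P : Subgroup K).index = 8 := by omega
    rw [h4] at h1
    have h5 : N.index ≠ 1 := fun e => by
      have hPn : (P : Subgroup K).Normal := normalizer_eq_top_iff.1 (index_eq_one.1 e)
      have h6 : (P : Subgroup K) ≤ centralizer (W : Set K) := commutator_eq_bot_iff_le_centralizer.1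
        (Cfsg.Agent.Lib.Components.commutator_eq_bot_of_disjoint_normalizing hPW
          (by rw [normalizer_eq_top]; exact le_top) (by rw [normalizer_eq_top]; exact le_top))
      rw [hC] at h6
      rw [inf_eq_left.2 h6] at hPW
      rw [hPW, card_bot] at hP
      omega
    have h6 : N.index ≤ 8 := Nat.le_of_dvd (by norm_num) h1
    have h7 : N.index ≠ 0 := index_ne_zero_of_finite
    unfold Nat.ModEq at h2
    interval_cases h : N.index <;> omega
  refine perm_of_core N hidx ?_ (by rw [hK]; rfl)
  set L := N.normalCore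
  have hLW : L ⊓ W = ⊥ := by
    by_contra hne
    obtain ⟨x, hx, hx1⟩ := (bot_or_exists_ne_one _).resolve_left hne
    have hcard : Nat.card ↥(L ⊓ W) = 2 := by
      have h1 := card_dvd_of_le (inf_le_left.trans (normalCore_le N) : L ⊓ W ≤ N)
      have h2 := hW ▸ card_dvd_of_le (inf_le_right : L ⊓ W ≤ W)
      have h3 := N.card_mul_index
      rw [hidx, hK] at h3
      rw [show Nat.card ↥N = 6 by omega] at h1
      have h4 : Nat.card ↥(L ⊓ W) ≠ 1 := fun e => hne (card_eq_one.1 e)
      have h5 := Nat.dvd_gcd h1 h2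
      rcases (Nat.dvd_prime Nat.prime_two).1 h5 with h6 | h6
      · exact absurd h6 h4
      · exact h6
    have hfix : ∀ k : K, k * x * k⁻¹ = x := fun k => by
      obtain ⟨y, -, hy⟩ := (Nat.card_eq_two_iff' (1 : ↥(L ⊓ W))).1 hcard
      have h1 : k * x * k⁻¹ ∈ L ⊓ W :=
        ⟨N.normalCore_normal.conj_mem x hx.1 k, (inferInstance : W.Normal).conj_mem x hx.2 k⟩
      exact congrArg Subtype.val ((hy ⟨_, h1⟩ fun e => hx1 (conj_eq_one_iff.1 (congrArg Subtype.val e))).trans
        (hy ⟨x, hx⟩ fun e => hx1 (congrArg Subtype.val e)).symm)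
    have huu : u * u = 1 := by
      have h1 : a * (a * v * a⁻¹) * a⁻¹ = v := by
        rw [show a * (a * v * a⁻¹) * a⁻¹ = (a * a) * v * (a * a)⁻¹ by group, ha2]; simp
      rw [hav, show a * (u * v) * a⁻¹ = (a * u * a⁻¹) * (a * v * a⁻¹) by group, hau, hav,
        ← mul_assoc] at h1
      exact mul_eq_right.1 h1
    have hall : x = u ∨ x = v ∨ x = u * v := by
      haveI := Fintype.ofFinite ↥W
      by_contra hh
      push Not at hh
      have hnv : u ≠ v := fun e => hv1 (by
        have h := hbu; rw [e, hbv] at h; exact mul_eq_left.1 h.symm)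
      have huv1 : u * v ≠ 1 := fun e => hnv (mul_left_cancel (e.trans huu.symm)).symm
      have hs : ({⟨1, one_mem W⟩, ⟨u, hu⟩, ⟨v, hv⟩, ⟨u * v, mul_mem hu hv⟩, ⟨x, hx.2⟩} :
          Finset ↥W).card = 5 := by
        simp [Finset.card_insert_of_notMem, hu1, hu1.symm, hv1, hv1.symm, hnv, huv1, huv1.symm, hx1,
          Ne.symm hx1, Ne.symm hh.1, Ne.symm hh.2.1, Ne.symm hh.2.2]
      have := Finset.card_le_univ ({⟨1, one_mem W⟩, ⟨u, hu⟩, ⟨v, hv⟩, ⟨u * v, mul_mem hu hv⟩,
        ⟨x, hx.2⟩} : Finset ↥W)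
      rw [hs, ← Nat.card_eq_fintype_card, hW] at this
      omega
    rcases hall with e | e | e
    · have h := hfix b
      rw [e, hbu] at h
      exact hv1 (mul_eq_left.1 h)
    · have h := hfix a
      rw [e, hav] at h
      exact hu1 (mul_eq_right.1 h)
    · have h := hfix a
      rw [e, show a * (u * v) * a⁻¹ = (a * u * a⁻¹) * (a * v * a⁻¹) by group, hau, hav] at h
      exact hu1 (mul_eq_right.1 h)
  haveI : L.Normal := N.normalCore_normal
  have h1 : L ≤ centralizer (W : Set K) := commutator_eq_bot_iff_le_centralizer.1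
    (Cfsg.Agent.Lib.Components.commutator_eq_bot_of_disjoint_normalizing hLW
      (by rw [normalizer_eq_top]; exact le_top) (by rw [normalizer_eq_top]; exact le_top))
  rw [hC] at h1
  rwa [inf_eq_left.2 h1] at hLW

end Cfsg.Agent.Lib.SimsThree
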