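import Cfsg.Agent.Lib.SimsThree.Gen
import Cfsg.Agent.Lib.SimsThree.Small
import Cfsg.Agent.Lib.ThompsonWielandt.Perm
import Cfsg.Agent.Lib.Involution.DihedralHom

/-!
Sims's theorem on suborbits of length three.
-/

set_option autoImplicit false
set_option linter.style.haveILetI false
set_option linter.unusedSectionVars false

namespace Cfsg.Agent.Lib.SimsThree

open Subgroup
open Cfsg.Agent.Lib.LocalChar (cj cj_cj cj_mono card_cj mem_nz_of_cj_eq cj_eq_of_mem_nz resOf resOf_le)
open Cfsg.Agent.Lib.ThompsonWielandt (cm cm_le cm_le_right le_normalizer_cm index_normalCore_dvd)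

variable {G : Type*} [Group G] [Finite G] {H N : Subgroup G}

lemma core_relIndex_dvd {X : Subgroup G} (hX : X ≤ H) (h3 : X.relIndex H = 3) :
    (cm H X).relIndex X ∣ 2 := by
  have h1 := index_normalCore_dvd (X.subgroupOf H)
  rw [show (X.subgroupOf H).index = 3 from h3] at h1
  have h2 : (cm H X).relIndex X * 3 = (X.subgroupOf H).normalCore.index := by
    rw [← h3, relIndex_mul_relIndex _ _ _ (cm_le_right H X) hX, relIndex,
      show (cm H X).subgroupOf H = (X.subgroupOf H).normalCore from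
        comap_map_eq_self_of_injective H.subtype_injective _]
  rw [← h2, show (3 : ℕ).factorial = 2 * 3 from rfl] at h1
  exact Nat.dvd_of_mul_dvd_mul_right (by norm_num) h1

lemma le_nz_resOf {X : Subgroup G} (hX : X ≤ H) (h3 : X.relIndex H = 3) :
    H ≤ normalizer (resOf 2 X : Set G) := by
  have hle : resOf 2 X ≤ cm H X := by
    refine Cfsg.Agent.Lib.LocalChar.resOf_le_iff.2 fun x hx ho => ?_
    haveI : ((cm H X).subgroupOf X).Normal :=
      normal_subgroupOf_of_le_normalizer (hX.trans (le_normalizer_cm H X))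
    have h1 : (⟨x, hx⟩ : ↥X) ^ ((cm H X).subgroupOf X).index ∈ (cm H X).subgroupOf X := pow_index_mem _ _
    have hd : (cm H X).relIndex X ∣ 2 := core_relIndex_dvd hX h3
    obtain ⟨c, hc⟩ := hd
    have h2 : x ^ 2 ∈ cm H X := by
      rw [hc, pow_mul]
      refine pow_mem ?_ c
      show x ^ (cm H X).relIndex X ∈ cm H X
      exact h1
    obtain ⟨n, hn⟩ := exists_pow_eq_self_of_coprime (n := 2) ho.symm
    exact hn ▸ pow_mem h2 n
  have he : resOf 2 X = resOf 2 (cm H X) :=
    le_antisymm ((Cfsg.Agent.Lib.LocalChar.resOf_idem (p := 2) X).ge.trans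
      (Cfsg.Agent.Lib.LocalChar.resOf_mono hle))
      (Cfsg.Agent.Lib.LocalChar.resOf_mono (cm_le_right H X))
  rw [he]
  exact (le_normalizer_cm H X).trans (Cfsg.Agent.Lib.LocalChar.nz_le_nz_resOf _)

lemma sup_eq_of_relIndex_three {X A B : Subgroup G} (hXA : X ≤ A) (hBA : B ≤ A)
    (h3 : X.relIndex A = 3) (hB : ¬ B ≤ X) : X ⊔ B = A := by
  refine le_antisymm (sup_le hXA hBA) (relIndex_eq_one.1 ?_)
  have h1 := relIndex_mul_relIndex X (X ⊔ B) A le_sup_left (sup_le hXA hBA)
  rw [h3] at h1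
  rcases (Nat.dvd_prime Nat.prime_three).1 (Dvd.intro _ h1) with h | h
  · exact absurd (le_sup_right.trans (relIndex_eq_one.1 h)) hB
  · rw [h] at h1; omega

/-- From the configuration to the generators, or the trivial case. -/
theorem reduce (g0 : G) (hN : cj g0 H = N) (hne : ∀ K : Subgroup G, K ≤ H ⊓ N →
    H ≤ normalizer (K : Set G) → N ≤ normalizer (K : Set G) → K = ⊥)
    (h3 : (H ⊓ N).relIndex H = 3) (h3' : (H ⊓ N).relIndex N = 3) :
    Nat.card ↥H = 3 ∨ ∃ (h : G) (k : ℕ) (z : ℤ → G) (m : ℕ),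
      Gens H N (H ⊓ N) h k z ∧ Dist z m ∧ m ≤ k ∧ Nat.card ↥H = 2 ^ k * 3 ∧
      ¬ H ≤ normalizer ((H ⊓ N : Subgroup G) : Set G) := by
  haveI : Fact (Nat.Prime 2) := ⟨Nat.prime_two⟩
  set X := H ⊓ N with hXdef
  have hXH : X ≤ H := inf_le_left
  have hXN : X ≤ N := inf_le_right
  have hres : resOf 2 X = ⊥ := hne _ (resOf_le X) (le_nz_resOf hXH h3) (le_nz_resOf hXN h3')
  have hp : IsPGroup 2 ↥X := Cfsg.Agent.Lib.Components.isPGroup_of_no_pprime_elements
    fun x hx ho => mem_bot.1 (hres.le (Cfsg.Agent.Lib.LocalChar.mem_resOf hx ho))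
  obtain ⟨g, hgN, hgX⟩ : ∃ g : G, cj g H = N ∧ cj g X = X := by
    have hX' : cj g0 X ≤ N := hN ▸ cj_mono hXH
    have hS : Cfsg.Agent.Lib.LocalChar.IsSylowIn 2 X N := ⟨hXN, hp, by rw [h3']; norm_num⟩
    have hS' : Cfsg.Agent.Lib.LocalChar.IsSylowIn 2 (cj g0 X) N :=
      hS.of_card (hp.map _) hX' (card_cj g0 X).ge
    obtain ⟨x, hx, hxe⟩ := hS.conj_eq hS'
    exact ⟨x * g0, by rw [← cj_cj, hN, cj_eq_of_mem_nz (le_normalizer hx)], by rw [← cj_cj, hxe]⟩
  have hcardH : Nat.card ↥H = Nat.card ↥X * 3 := by rw [← h3, card_mul_relIndex' hXH]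
  by_cases hH : H ≤ normalizer (X : Set G)
  · left
    have hNn : N ≤ normalizer (X : Set G) := by
      rw [← hgN]
      rintro _ ⟨y, hy, rfl⟩
      have hg' : g ∈ normalizer (X : Set G) := mem_nz_of_cj_eq hgX
      exact mul_mem (mul_mem hg' (hH hy)) (inv_mem hg')
    rw [hcardH, hne X le_rfl hH hNn, card_bot, one_mul]
  right
  have hNn : ¬ N ≤ normalizer (X : Set G) := fun hc => hH fun y hy => by
    have hg' : g ∈ normalizer (X : Set G) := mem_nz_of_cj_eq hgX
    have h1 : g * y * g⁻¹ ∈ N := hgN ▸ Cfsg.Agent.Lib.LocalChar.conj_mem_cj hy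
    simpa [mul_assoc] using mul_mem (mul_mem (inv_mem hg') (hc h1)) hg'
  obtain ⟨n, hn, hn'⟩ := SetLike.not_le_iff_exists.1 hNn
  set h := n * g with hh
  have hX : cj h X = cj n X := by rw [hh, ← cj_cj, hgX]
  have hXne : cj h X ≠ X := fun e => hn' (mem_nz_of_cj_eq (hX ▸ e))
  have hHN : cj h H = N := by rw [hh, ← cj_cj, hgN, cj_eq_of_mem_nz (le_normalizer hn)]
  have hXN' : cj h X ≤ N := hHN ▸ cj_mono hXH
  have hnle : ¬ cj h X ≤ X := fun e => hXne (eq_of_le_of_card_ge e (card_cj h X).ge)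
  have hidx : X.relIndex (cj h X) = 2 := by
    have h1 : cm N X ≤ X ⊓ cj h X := by
      refine le_inf (cm_le_right N X) ?_
      rw [hX, ← cj_eq_of_mem_nz (le_normalizer_cm N X hn)]
      exact cj_mono (cm_le_right N X)
    have h2 : X.relIndex (cj h X) ∣ (cm N X).relIndex (cj h X) :=
      relIndex_dvd_of_le_left _ (h1.trans inf_le_left)
    have h4 : (cm N X).relIndex (cj h X) = (cm N X).relIndex X := by
      refine mul_left_cancel₀ (Nat.card_pos (α := ↥(cm N X))).ne' ?_
      rw [card_mul_relIndex' (h1.trans inf_le_right), card_mul_relIndex' (cm_le_right N X), card_cj]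
    rw [h4] at h2
    rcases (Nat.dvd_prime Nat.prime_two).1 (h2.trans (core_relIndex_dvd hXN h3')) with h5 | h5
    · exact absurd (relIndex_eq_one.1 h5) hnle
    · exact h5
  have hH' : cj h⁻¹ N = H := by rw [← hHN, cj_cj, inv_mul_cancel, Cfsg.Agent.Lib.LocalChar.cj_one]
  have hgenH : cj h⁻¹ X ⊔ X = H := by
    rw [sup_comm]
    refine sup_eq_of_relIndex_three hXH (hH' ▸ cj_mono hXN) h3 fun e => hXne ?_
    have e' : cj h⁻¹ X = X := eq_of_le_of_card_ge e (card_cj _ X).ge
    conv_lhs => rw [← e', cj_cj, mul_inv_cancel, Cfsg.Agent.Lib.LocalChar.cj_one]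
  have hnot : ¬ IsPGroup 2 ↥H := fun hc => by
    obtain ⟨j, hj⟩ := IsPGroup.iff_card.1 hc
    have h5 : X.relIndex H ∣ Nat.card ↥H := Dvd.intro_left _ (card_mul_relIndex' hXH)
    rw [h3, hj] at h5
    exact absurd (Nat.prime_three.dvd_of_dvd_pow h5) (by norm_num)
  have d : Data H N X h := ⟨hp, hXH, hidx, hnot, sup_eq_of_relIndex_three hXN hXN' h3' hnle, hgenH,
    fun K h1 h2 h4 => hne K h1 h2 h4⟩
  obtain ⟨k, z, hg⟩ := d.exists_gens
  obtain ⟨m, hm, hmk⟩ := hg.exists_dist
  refine ⟨h, k, z, m, hg, hm, hmk, ?_, hH⟩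
  have h0 := hg.card 0 (by omega)
  rw [Nat.cast_zero, T_zero_zero, Nat.sub_zero] at h0
  rw [hcardH, h0]

section structure_

variable {X : Subgroup G} {h : G} {k : ℕ} {z : ℤ → G}

lemma Gens.conj_eq (g : Gens H N X h k z) (a x : ℤ) : z a * z x * (z a)⁻¹ = z a * z x * z a := by
  rw [inv_eq_of_mul_eq_one_right (g.sq a)]

lemma Gens.le_nz_of (g : Gens H N X h k z) {a b : ℤ} (hk : b + 1 ≤ a + k)
    (hS : ∀ l j : ℤ, 0 ≤ l → l ≤ k → a ≤ j → j ≤ b → z l * z j * z l ∈ I X h k a b) :
    H ≤ normalizer (I X h k a b : Set G) :=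
  g.le_H fun l h1 h2 => g.mem_nz hk fun j h3 h4 => hS l j h1 h2 h3 h4

/-- `I 1 (k-1)` is normal in `H`. -/
lemma Gens.le_nz_P (g : Gens H N X h k z) :
    H ≤ normalizer (I X h k 1 (k - 1) : Set G) := by
  refine g.le_H fun l h1 h2 => ?_
  have key : ∀ a b : ℤ, a ≤ 1 → (k : ℤ) - 1 ≤ b → b + 1 = a + k → a ≤ l → l ≤ b →
      z l ∈ normalizer (I X h k 1 (k - 1) : Set G) := by
    intro a b ha hb hab h3 h4
    have hle := I_mono (X := X) (h := h) (k := k) ha hb
    have hn : ((I X h k 1 ((k : ℤ) - 1)).subgroupOf (I X h k a b)).Normal := by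
      refine normal_of_index_eq_two ?_
      have := card_mul_relIndex' hle
      rw [g.card_I (by omega) (by omega), g.card_I (by omega) (by omega),
        show (b + 1 - a).toNat = ((k : ℤ) - 1 + 1 - 1).toNat + 1 by omega, pow_succ] at this
      exact mul_left_cancel₀ (pow_ne_zero _ two_ne_zero) this
    exact (normal_subgroupOf_iff_le_normalizer hle).1 hn (g.mem_I h3 h4)
  rcases eq_or_ne l 0 with rfl | hl
  · exact key 0 (k - 1) (by omega) le_rfl (by omega) le_rfl (by have := g.kpos; omega)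
  · exact key 1 k le_rfl (by omega) (by omega) (by omega) h2

lemma Gens.mem_pair (g : Gens H N X h k z) {a : ℤ} (hk : 2 ≤ k) {x : G}
    (hx : x ∈ I X h k a (a + 1)) :
    x = 1 ∨ x = z a ∨ x = z (a + 1) ∨ x = z a * z (a + 1) := by
  have key : ∀ i : ℤ, ∀ y ∈ I X h k i i, y = 1 ∨ y = z i := by
    intro i y hy
    rw [← g.zpowers_eq] at hy
    obtain ⟨n, rfl⟩ := hy
    rcases Int.even_or_odd n with ⟨j, rfl⟩ | ⟨j, rfl⟩
    · left; simp only [show j + j = 2 * j by ring, zpow_mul, zpow_two, g.sq, one_zpow]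
    · right; simp only [zpow_add, zpow_mul, zpow_two, g.sq, one_zpow, one_mul, zpow_one]
  by_cases h1 : x ∈ I X h k (a + 1) (a + 1)
  · rcases key _ _ h1 with e | e
    · exact Or.inl e
    · exact Or.inr (Or.inr (Or.inl e))
  · rcases key _ _ (g.mul_mem_succ (by omega) (by omega) hx h1) with e | e
    · right; left
      rw [← mul_one (z a), ← e, ← mul_assoc, g.sq, one_mul]
    · right; right; right
      rw [← e, ← mul_assoc, g.sq, one_mul]

lemma Gens.index3 (g : Gens H N X h k z) (hcard : Nat.card ↥H = 2 ^ k * 3) : X.relIndex H = 3 := by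
  have h0 := g.card 0 (by omega)
  rw [Nat.cast_zero, T_zero_zero, Nat.sub_zero] at h0
  have h1 := card_mul_relIndex' g.data.leH
  rw [h0, hcard] at h1
  exact mul_left_cancel₀ (pow_ne_zero _ two_ne_zero) h1

/-- The stabilizer in the case `k = 1`. -/
theorem iso_one (g : Gens H N X h k z) (hk : k = 1) (hcard : Nat.card ↥H = 2 ^ k * 3)
    (hnn : ¬ H ≤ normalizer (X : Set G)) : Nonempty (↥H ≃* Equiv.Perm (Fin 3)) := by
  subst hk
  refine perm_of_core (X.subgroupOf H) (g.index3 hcard) ?_ (by rw [hcard]; rfl)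
  have hX : Nat.card ↥(X.subgroupOf H) = 2 := by
    rw [Nat.card_congr (subgroupOfEquivOfLe g.data.leH).toEquiv]
    have h0 := g.card 0 (by omega)
    rw [Nat.cast_zero, T_zero_zero] at h0
    simpa using h0
  rcases (Nat.dvd_prime Nat.prime_two).1 (hX ▸ card_dvd_of_le (normalCore_le (X.subgroupOf H))) with e | e
  · exact card_eq_one.1 e
  · refine absurd ?_ hnn
    have e2 := eq_of_le_of_card_ge (normalCore_le (X.subgroupOf H)) (by rw [e, hX])
    exact (normal_subgroupOf_iff_le_normalizer g.data.leH).1 (e2 ▸ normalCore_normal _)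

/-- The stabilizer in the case `k = 2`. -/
theorem iso_two (g : Gens H N X h k z) (d : Dist z 2) (hk : k = 2) (hcard : Nat.card ↥H = 2 ^ k * 3) :
    Nonempty (↥H ≃* DihedralGroup 6) := by
  subst hk
  haveI : Fact (Nat.Prime 2) := ⟨Nat.prime_two⟩
  have hX : Nat.card ↥X = 4 := by
    have h0 := g.card 0 (by omega)
    rwa [Nat.cast_zero, T_zero_zero] at h0
  have h4 : ∀ x ∈ H, x ^ 4 = 1 → x ^ 2 = 1 := by
    intro x hx hx4
    have hS : Cfsg.Agent.Lib.LocalChar.IsSylowIn 2 X H :=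
      ⟨g.data.leH, g.data.isTwo, by rw [g.index3 hcard]; norm_num⟩
    have hp : IsPGroup 2 ↥(zpowers x) := by
      rintro ⟨w, hw⟩
      obtain ⟨n, rfl⟩ := hw
      refine ⟨2, Subtype.ext ?_⟩
      show (x ^ n) ^ (2 ^ 2) = 1
      rw [← zpow_natCast, ← zpow_mul, mul_comm, zpow_mul, zpow_natCast, show x ^ (2 ^ 2) = 1 from hx4, one_zpow]
    obtain ⟨y, -, hy⟩ := hS.conj_le hp (zpowers_le.2 hx)
    have h1 : y * x * y⁻¹ ∈ X := hy (Cfsg.Agent.Lib.LocalChar.conj_mem_cj (mem_zpowers x))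
    have h2 : X ≤ centralizer {z 1} ⊓ centralizer {z 2} := by
      rw [← I_X X h 2]
      exact g.I_le' (by omega) fun l h1 h2 => ⟨mem_centralizer_singleton_iff.2 (d.comm l 1 (by omega) (by omega)),
        mem_centralizer_singleton_iff.2 (d.comm l 2 (by omega) (by omega))⟩
    have h3 : (y * x * y⁻¹) ^ 2 = 1 := by
      have h5 : y * x * y⁻¹ ∈ I X h 2 1 (1 + 1) := by
        show _ ∈ I X h 2 1 2
        exact (I_X X h 2).symm ▸ h1
      have hc : Commute (z 1) (z (1 + 1)) := d.comm _ _ (by omega) (by omega)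
      rcases g.mem_pair le_rfl h5 with e | e | e | e <;> rw [e]
      · simp
      · rw [pow_two]; exact g.sq 1
      · rw [pow_two]; exact g.sq _
      · rw [hc.mul_pow, pow_two, pow_two, g.sq, g.sq, one_mul]
    rw [conj_pow] at h3
    simpa using h3
  have hz0 := g.mem_H (l := 0) le_rfl (by omega)
  have hz1 := g.mem_H (l := 1) (by omega) (by omega)
  have hz2 := g.mem_H (l := 2) (by omega) (by omega)
  have hdiv : orderOf (z 0 * z 2) ∣ 12 := by
    have := Subgroup.orderOf_dvd_natCard H (mul_mem hz0 hz2)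
    rwa [hcard] at this
  have hn2 : (z 0 * z 2) ^ 2 ≠ 1 := by
    intro e
    refine d.ncomm 0 ?_
    show z 0 * z (0 + (2 : ℕ)) = z (0 + (2 : ℕ)) * z 0
    rw [zero_add]
    rw [pow_two] at e
    have h4 := eq_inv_of_mul_eq_one_left e
    rwa [mul_inv_rev, inv_eq_of_mul_eq_one_right (g.sq _), inv_eq_of_mul_eq_one_right (g.sq _)] at h4
  have hn : orderOf (z 0 * z 2) = 3 ∨ orderOf (z 0 * z 2) = 6 := by
    have hp : ∀ n, orderOf (z 0 * z 2) = n → ∀ m, n ∣ m → (z 0 * z 2) ^ m = 1 :=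
      fun n e m hm => orderOf_dvd_iff_pow_eq_one.1 (e ▸ hm)
    have hmem : orderOf (z 0 * z 2) ∈ Nat.divisors 12 := Nat.mem_divisors.2 ⟨hdiv, by norm_num⟩
    rw [show Nat.divisors 12 = {1, 2, 3, 4, 6, 12} by decide] at hmem
    simp only [Finset.mem_insert, Finset.mem_singleton] at hmem
    rcases hmem with hc | hc | hc | hc | hc | hc
    · exact absurd (hp 1 hc 2 (by norm_num)) hn2
    · exact absurd (hp 2 hc 2 (by norm_num)) hn2
    · exact Or.inl hc
    · exact absurd (h4 _ (mul_mem hz0 hz2) (hp 4 hc 4 (by norm_num))) hn2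
    · exact Or.inr hc
    · exfalso
      have e1 : ((z 0 * z 2) ^ 3) ^ 2 = 1 := h4 _ (pow_mem (mul_mem hz0 hz2) 3)
        (by rw [← pow_mul]; exact hp 12 hc 12 (by norm_num))
      rw [← pow_mul] at e1
      exact absurd (hc ▸ orderOf_dvd_of_pow_eq_one e1) (by norm_num)
  -- an involution `b` with `z 0 * b` of order six
  obtain ⟨b, hbH, hb2, hb6⟩ : ∃ b ∈ H, b * b = 1 ∧ orderOf (z 0 * b) = 6 := by
    rcases hn with hn | hn
    · have hc : Commute (z 1) (z 0 * z 2) :=
        (d.comm 1 0 (by omega) (by omega)).mul_right (d.comm 1 2 (by omega) (by omega))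
      have h12 : Commute (z 1) (z 2) := d.comm 1 2 (by omega) (by omega)
      refine ⟨z 2 * z 1, mul_mem hz2 hz1, ?_, ?_⟩
      · rw [show z 2 * z 1 * (z 2 * z 1) = z 2 * (z 1 * z 2) * z 1 by simp only [mul_assoc], h12.eq,
          show z 2 * (z 2 * z 1) * z 1 = z 2 * z 2 * (z 1 * z 1) by simp only [mul_assoc], g.sq, g.sq, one_mul]
      · have h2 : orderOf (z 1) = 2 := orderOf_eq_prime (by rw [pow_two]; exact g.sq 1) (g.ne 1)
        rw [← mul_assoc, hc.symm.orderOf_mul_eq_mul_orderOf_of_coprime (by rw [hn, h2]; norm_num), hn, h2]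
    · exact ⟨z 2, hz2, g.sq 2, hn⟩
  have hinv : (z 0)⁻¹ = z 0 := inv_eq_of_mul_eq_one_right (g.sq 0)
  refine Cfsg.Agent.Lib.Involution.iso_dihedral (mul_mem hz0 hbH) hz0 hb6 (g.sq 0) ?_ ?_
    (by rw [hcard]; norm_num)
  · intro hmem
    obtain ⟨i, hi⟩ := hmem
    have hc : Commute (z 0) (z 0 * b) := by
      have h1 := (Commute.refl (z 0 * b)).zpow_left i
      rw [show (z 0 * b) ^ i = z 0 from hi] at h1
      exact h1
    have hc2 : z 0 * (z 0 * b) = (z 0 * b) * z 0 := hc.eq
    rw [← mul_assoc, g.sq, one_mul] at hc2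
    have : (z 0 * b) ^ 2 = 1 := by
      rw [pow_two, ← mul_assoc, ← hc2, hb2]
    have h6 := orderOf_dvd_of_pow_eq_one this
    rw [hb6] at h6
    norm_num at h6
  · rw [hinv, mul_inv_rev, hinv, inv_eq_of_mul_eq_one_right hb2, ← mul_assoc, g.sq, one_mul]

/-- The stabilizer in the case `k = 3`. -/
theorem iso_three (g : Gens H N X h k z) (d : Dist z 2) (hk : k = 3)
    (hcard : Nat.card ↥H = 2 ^ k * 3) : Nonempty (↥H ≃* Equiv.Perm (Fin 4)) := by
  subst hk
  have hP : H ≤ normalizer (I X h 3 1 2 : Set G) := by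
    have := g.le_nz_P
    norm_num at this
    exact this
  haveI : ((I X h 3 1 2).subgroupOf H).Normal := normal_subgroupOf_of_le_normalizer hP
  have hle : I X h 3 1 2 ≤ H := g.I_le' (by omega) fun l h1 h2 => g.mem_H (by omega) (by omega)
  have hinv : ∀ l, (z l)⁻¹ = z l := fun l => inv_eq_of_mul_eq_one_right (g.sq l)
  have hz := fun (l : ℤ) (h1 : 0 ≤ l) (h2 : l ≤ 3) => g.mem_H (l := l) h1 (by simpa using h2)
  have hcard4 : Nat.card ↥((I X h 3 1 2).subgroupOf H) = 4 := by
    rw [Nat.card_congr (subgroupOfEquivOfLe hle).toEquiv, g.card_I (by omega) (by omega)]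
    rfl
  have hc01 : Commute (z 0) (z 1) := d.comm _ _ (by omega) (by omega)
  have hc32 : Commute (z 3) (z 2) := d.comm _ _ (by omega) (by omega)
  have hc12 : Commute (z 1) (z 2) := d.comm _ _ (by omega) (by omega)
  have moved : ∀ a x y : ℤ, z a * z x * z a ∈ I X h 3 1 2 → Commute (z a) (z y) →
      ¬ Commute (z a) (z x) → ((x = 1 ∧ y = 2) ∨ (x = 2 ∧ y = 1)) → z a * z x * z a = z 1 * z 2 := by
    intro a x y hm hy hx hxy
    have hxy' : z x ≠ z y := fun e => hx (e ▸ hy)
    have h0 : z a * z x * z a ≠ 1 := fun e => g.ne x (by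
      rw [show z x = z a * (z a * z x * z a) * z a by
        rw [show z a * (z a * z x * z a) * z a = z a * z a * z x * (z a * z a) by simp only [mul_assoc],
          g.sq, one_mul, mul_one], e, mul_one, g.sq])
    have h1 : z a * z x * z a ≠ z x := fun e => hx (by
      show z a * z x = z x * z a
      conv_rhs => rw [← e]
      rw [mul_assoc _ (z a) (z a), g.sq, mul_one])
    have h2 : z a * z x * z a ≠ z y := fun e => hxy' (by
      rw [show z x = z a * (z a * z x * z a) * z a by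
        rw [show z a * (z a * z x * z a) * z a = z a * z a * z x * (z a * z a) by simp only [mul_assoc],
          g.sq, one_mul, mul_one], e, hy.eq, mul_assoc, g.sq, mul_one])
    rcases g.mem_pair (a := 1) (by omega) hm with e | e | e | e
    · exact absurd e h0
    · rcases hxy with ⟨rfl, rfl⟩ | ⟨rfl, rfl⟩
      exacts [absurd e h1, absurd e h2]
    · rcases hxy with ⟨rfl, rfl⟩ | ⟨rfl, rfl⟩
      exacts [absurd e h2, absurd e h1]
    · exact e
  have hconj : ∀ l x : ℤ, 0 ≤ l → l ≤ 3 → 1 ≤ x → x ≤ 2 → z l * z x * z l ∈ I X h 3 1 2 := by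
    intro l x h1 h2 h3 h4
    have := (mem_normalizer_iff.1 (hP (hz l h1 h2)) (z x)).1 (g.mem_I h3 h4)
    rwa [hinv] at this
  have e02 : z 0 * z 2 * z 0 = z 1 * z 2 :=
    moved 0 2 1 (hconj 0 2 le_rfl (by omega) (by omega) le_rfl) hc01 (by simpa using d.ncomm 0)
      (Or.inr ⟨rfl, rfl⟩)
  have e31 : z 3 * z 1 * z 3 = z 1 * z 2 :=
    moved 3 1 2 (hconj 3 1 (by omega) le_rfl le_rfl (by omega)) hc32
      (fun e => d.ncomm 1 (by simpa using e.symm)) (Or.inl ⟨rfl, rfl⟩)
  refine perm_four ((I X h 3 1 2).subgroupOf H) hcard4 (by rw [hcard]; norm_num)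
    (u := ⟨z 1, hz 1 (by omega) (by omega)⟩) (v := ⟨z 2, hz 2 (by omega) (by omega)⟩)
    (a := ⟨z 0, hz 0 le_rfl (by omega)⟩) (b := ⟨z 3, hz 3 (by omega) le_rfl⟩)
    (g.mem_I le_rfl (by omega)) (g.mem_I (by omega) le_rfl) (fun e => g.ne 1 (congrArg Subtype.val e))
    (Subtype.ext ?_) (Subtype.ext ?_) (Subtype.ext ?_) (Subtype.ext ?_)
    (Subtype.ext (g.sq 0)) (Subtype.ext (g.sq 3))
  all_goals simp only [coe_mul, coe_inv, hinv]
  · rw [hc01.eq, mul_assoc, g.sq, mul_one]
  · exact e02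
  · exact e31
  · rw [hc32.eq, mul_assoc, g.sq, mul_one]

/-- The commutator relations in the case `k = 4`. -/
theorem Gens.relations_four (g : Gens H N X h k z) (d : Dist z 3) (hk : k = 4) {q : ℕ} (hq : Odd q)
    (hcard : Nat.card ↥H = 2 ^ k * q) :
    z 0 * z 3 * z 0 = z 1 * z 2 * z 3 ∧ z 4 * z 1 * z 4 = z 2 * z 3 * z 1 := by
  subst hk
  haveI : Fact (Nat.Prime 2) := ⟨Nat.prime_two⟩
  have hinv : ∀ l, (z l)⁻¹ = z l := fun l => inv_eq_of_mul_eq_one_right (g.sq l)
  have hz := fun (l : ℤ) (h1 : 0 ≤ l) (h2 : l ≤ 4) => g.mem_H (l := l) h1 (by simpa using h2)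
  have hP : H ≤ normalizer (I X h 4 1 3 : Set G) := by
    have := g.le_nz_P
    norm_num at this
    exact this
  have c : ∀ i j : ℤ, j - i < 3 → i - j < 3 → Commute (z i) (z j) := fun i j a b =>
    d.comm i j (by omega) (by omega)
  have hcen : ∀ x ∈ H, Commute x (z 2) := fun x hx => mem_centralizer_singleton_iff.1
    (g.le_H (S := centralizer {z 2}) (fun l h1 h2 => mem_centralizer_singleton_iff.2
      (c l 2 (by omega) (by omega))) hx)
  have hPle : I X h 4 1 3 ≤ H := g.I_le' (by omega) fun l h1 h2 => hz l (by omega) (by omega)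
  have conj3 : ∀ l x : ℤ, 0 ≤ l → l ≤ 4 → 1 ≤ x → x ≤ 3 → z l * z x * z l ∈ I X h 4 1 3 := by
    intro l x h1 h2 h3 h4
    have := (mem_normalizer_iff.1 (hP (hz l h1 h2)) (z x)).1 (g.mem_I h3 h4)
    rwa [hinv] at this
  -- the commutator of `z 0` and `z 3`
  set y := z 0 * z 3 * z 0 * z 3 with hy
  have hyne : y ≠ 1 := fun e => d.ncomm 0 (by
    show z 0 * z (0 + (3 : ℕ)) = z (0 + (3 : ℕ)) * z 0
    rw [zero_add]
    have h4 := eq_inv_of_mul_eq_one_left (show z 0 * z 3 * (z 0 * z 3) = 1 by rw [← mul_assoc]; exact e)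
    rwa [mul_inv_rev, hinv, hinv] at h4)
  have hy12 : y ∈ I X h 4 1 2 := by
    have hnotin : z 0 * z 3 * z 0 ∉ I X h 4 1 2 := by
      intro hm
      have hc : Commute (z 0 * z 3 * z 0) (z 0) :=
        g.commute_of_I (by omega) (fun l h1 h2 => c l 0 (by omega) (by omega)) hm
      refine d.ncomm 0 ?_
      show z 0 * z (0 + (3 : ℕ)) = z (0 + (3 : ℕ)) * z 0
      rw [zero_add]
      have h1 := hc.eq
      rw [mul_assoc _ (z 0) (z 0), g.sq, mul_one, ← mul_assoc, ← mul_assoc, g.sq, one_mul] at h1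
      exact h1
    exact g.mul_mem_pred (a := 1) (b := 3) (by omega) (by omega)
      (conj3 0 3 le_rfl (by omega) (by omega) le_rfl) hnotin
  have hy' : z 1 * z 4 * z 1 * z 4 = h * y * h⁻¹ := by
    have e0 := g.shift 0 1
    have e3 := g.shift 3 1
    norm_num at e0 e3
    rw [hy, ← e0, ← e3]
    simp only [mul_assoc, inv_mul_cancel_left]
  have e14 : z 4 * z 1 * z 4 = (h * y * h⁻¹)⁻¹ * z 1 := by
    rw [← hy']
    simp only [mul_inv_rev, hinv, mul_assoc, g.sq, mul_one]
  -- `X` cannot centralize `I 1 3` modulo `⟨z 2⟩`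
  have noC : ∀ f : ℤ, (f = 0 ∨ f = 4) →
      (∀ p ∈ I X h 4 1 3, z f * p * z f * p⁻¹ ∈ zpowers (z 2)) → False := by
    intro f hf hfp
    have hZH : zpowers (z 2) ≤ H := zpowers_le.2 (hz 2 (by omega) (by omega))
    let S : Subgroup G :=
      { carrier := {x | x ∈ H ∧ ∀ p ∈ I X h 4 1 3, x * p * x⁻¹ * p⁻¹ ∈ zpowers (z 2)}
        one_mem' := ⟨one_mem _, fun p _ => by simp⟩
        mul_mem' := by
          rintro u v ⟨hu, hu'⟩ ⟨hv, hv'⟩
          refine ⟨mul_mem hu hv, fun p hp => ?_⟩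
          obtain ⟨i, hi⟩ := hv' p hp
          have hc : Commute u ((z 2) ^ i) := (hcen u hu).zpow_right i
          have e : u * v * p * (u * v)⁻¹ * p⁻¹ = (z 2) ^ i * (u * p * u⁻¹ * p⁻¹) := by
            calc u * v * p * (u * v)⁻¹ * p⁻¹ = u * (v * p * v⁻¹ * p⁻¹) * p * u⁻¹ * p⁻¹ := by group
              _ = u * (z 2) ^ i * p * u⁻¹ * p⁻¹ := by rw [show v * p * v⁻¹ * p⁻¹ = (z 2) ^ i from hi.symm]
              _ = _ := by rw [hc.eq]; group
          rw [e]
          exact mul_mem (zpow_mem (mem_zpowers _) i) (hu' p hp)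
        inv_mem' := by
          rintro u ⟨hu, hu'⟩
          refine ⟨inv_mem hu, fun p hp => ?_⟩
          have hp' : u⁻¹ * p * u ∈ I X h 4 1 3 :=
            (mem_normalizer_iff'.1 (hP hu) _).2 (by simpa [mul_assoc] using hp)
          have h1 := inv_mem (hu' _ hp')
          simpa [mul_assoc] using h1 }
    have hSle : ∀ l : ℤ, 1 ≤ l → l ≤ 3 → z l ∈ S := fun l h1 h2 =>
      ⟨hz l (by omega) (by omega), fun p hp => by
        have hc : Commute p (z l) :=
          g.commute_of_I (by omega) (fun j h3 h4 => c j l (by omega) (by omega)) hp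
        rw [← hc.eq]; simp⟩
    have hfS : z f ∈ S := ⟨hz f (by omega) (by omega), fun p hp => by rw [hinv]; exact hfp p hp⟩
    -- `S` contains a Sylow 2-subgroup, hence all of `H`
    obtain ⟨Y, hY, hYH, hYS⟩ : ∃ Y : Subgroup G, Nat.card ↥Y = 16 ∧ Y ≤ H ∧ Y ≤ S := by
      rcases hf with rfl | rfl
      · refine ⟨I X h 4 0 3, by rw [g.card_I (by omega) (by omega)]; rfl,
          g.I_le' (by omega) fun l h1 h2 => hz l h1 (by omega),
          g.I_le' (by omega) fun l h1 h2 => ?_⟩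
        rcases eq_or_lt_of_le h1 with e | e
        exacts [e ▸ hfS, hSle l (by omega) h2]
      · refine ⟨I X h 4 1 4, by rw [g.card_I (by omega) (by omega)]; rfl,
          g.I_le' (by omega) fun l h1 h2 => hz l (by omega) h2,
          g.I_le' (by omega) fun l h1 h2 => ?_⟩
        rcases eq_or_lt_of_le h2 with e | e
        exacts [e ▸ hfS, hSle l h1 (by omega)]
    have hSn : H ≤ normalizer (S : Set G) := by
      rw [Cfsg.Agent.Lib.LocalChar.le_nz_iff]
      rintro t ht x ⟨hx, hx'⟩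
      refine ⟨mul_mem (mul_mem ht hx) (inv_mem ht), fun p hp => ?_⟩
      have hp' : t⁻¹ * p * t ∈ I X h 4 1 3 :=
        (mem_normalizer_iff'.1 (hP ht) _).2 (by simpa [mul_assoc] using hp)
      obtain ⟨i, hi⟩ := hx' _ hp'
      refine ⟨i, ?_⟩
      have e : t * x * t⁻¹ * p * (t * x * t⁻¹)⁻¹ * p⁻¹ =
          t * (x * (t⁻¹ * p * t) * x⁻¹ * (t⁻¹ * p * t)⁻¹) * t⁻¹ := by group
      rw [e, ← show (z 2) ^ i = _ from hi, ((hcen t ht).zpow_right i).eq, mul_inv_cancel_right]
    have hXY : ∀ W : Subgroup G, W ≤ H → IsPGroup 2 ↥W → W ≤ S := by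
      intro W hW hWp
      have hS : Cfsg.Agent.Lib.LocalChar.IsSylowIn 2 Y H := by
        refine ⟨hYH, IsPGroup.of_card (n := 4) hY, ?_⟩
        have := card_mul_relIndex' hYH
        rw [hY, hcard] at this
        rw [show Y.relIndex H = q from mul_left_cancel₀ (by norm_num : (16 : ℕ) ≠ 0) (this.trans (by norm_num))]
        exact fun h2 => (Nat.not_even_iff_odd.2 hq) (even_iff_two_dvd.2 h2)
      obtain ⟨t, ht, hle⟩ := hS.conj_le hWp hW
      intro w hw
      have h1 : t * w * t⁻¹ ∈ S := hYS (hle (Cfsg.Agent.Lib.LocalChar.conj_mem_cj hw))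
      exact (mem_normalizer_iff.1 (hSn ht) w).2 h1
    have hall : ∀ l : ℤ, 0 ≤ l → l ≤ 4 → z l ∈ S := fun l h1 h2 =>
      hXY (zpowers (z l)) (zpowers_le.2 (hz l h1 h2)) (IsPGroup.of_card (n := 1) (by
        rw [Nat.card_zpowers, pow_one]
        exact orderOf_eq_prime (by rw [pow_two]; exact g.sq l) (g.ne l))) (mem_zpowers _)
    -- both `z 0` and `z 4` centralize modulo `z 2`
    have h0 := (hall 0 le_rfl (by omega)).2 (z 3) (g.mem_I (by omega) le_rfl)
    rw [hinv, hinv, ← hy] at h0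
    have h4 := (hall 4 (by omega) le_rfl).2 (z 1) (g.mem_I le_rfl (by omega))
    rw [hinv, hinv, e14, mul_assoc, g.sq, mul_one, g.zpowers_eq] at h4
    have h4' : h * y * h⁻¹ ∈ I X h 4 2 2 := by simpa using inv_mem h4
    have h5 : y ∈ I X h 4 1 1 := by
      have := Cfsg.Agent.Lib.LocalChar.conj_mem_cj (g := h ^ (-1 : ℤ)) h4'
      rw [I, cj_T] at this
      rw [I]
      convert this using 1
      all_goals first
        | rfl
        | rw [zpow_neg_one, inv_inv, mul_assoc h y, inv_mul_cancel_left, mul_assoc, inv_mul_cancel, mul_one]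
    have h6 : y ∈ I X h 4 2 2 ⊓ I X h 4 1 1 := ⟨g.zpowers_eq 2 ▸ h0, h5⟩
    rw [I_inf (by omega) (by omega), g.I_eq_bot (by omega), mem_bot] at h6
    exact hyne h6
  have hcomm12 : Commute (z 1) (z 2) := c _ _ (by omega) (by omega)
  have y_eq : y = z 1 * z 2 := by
    rcases g.mem_pair (a := 1) (by omega) hy12 with e | e | e | e
    · exact absurd e hyne
    · -- then `z 4` centralizes modulo `z 2`
      exfalso
      refine noC 4 (Or.inr rfl) ?_
      have e' : h * y * h⁻¹ = z 2 := by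
        rw [e]; simpa using g.shift 1 1
      rw [e', hinv] at e14
      have hle : I X h 4 1 3 ≤ centralizer {z 2} :=
        g.I_le' (by omega) fun l h1 h2 => mem_centralizer_singleton_iff.2 (c l 2 (by omega) (by omega))
      let A : Subgroup G :=
        { carrier := {p | p ∈ I X h 4 1 3 ∧ z 4 * p * z 4 * p⁻¹ ∈ zpowers (z 2)}
          one_mem' := ⟨one_mem _, by simp [g.sq]⟩
          mul_mem' := by
            rintro u v ⟨hu, hu'⟩ ⟨hv, hv'⟩
            refine ⟨mul_mem hu hv, ?_⟩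
            obtain ⟨i, hi⟩ := hv'
            have hcu : Commute u ((z 2) ^ i) :=
              (show Commute u (z 2) from mem_centralizer_singleton_iff.1 (hle hu)).zpow_right i
            have e : z 4 * (u * v) * z 4 * (u * v)⁻¹ = (z 4 * u * z 4 * u⁻¹) * (z 2) ^ i := by
              calc z 4 * (u * v) * z 4 * (u * v)⁻¹
                  = z 4 * u * (z 4 * z 4) * v * z 4 * v⁻¹ * u⁻¹ := by rw [g.sq, mul_one]; group
                _ = z 4 * u * z 4 * (z 4 * v * z 4 * v⁻¹) * u⁻¹ := by group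
                _ = z 4 * u * z 4 * ((z 2) ^ i * u⁻¹) := by
                    rw [show z 4 * v * z 4 * v⁻¹ = (z 2) ^ i from hi.symm]; group
                _ = _ := by rw [← hcu.inv_left.eq]; group
            rw [e]
            exact mul_mem hu' (zpow_mem (mem_zpowers _) i)
          inv_mem' := by
            rintro u ⟨hu, hu'⟩
            refine ⟨inv_mem hu, ?_⟩
            obtain ⟨i, hi⟩ := hu'
            have hcu : Commute u ((z 2) ^ i) :=
              (show Commute u (z 2) from mem_centralizer_singleton_iff.1 (hle hu)).zpow_right i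
            refine ⟨-i, ?_⟩
            show (z 2) ^ (-i) = z 4 * u⁻¹ * z 4 * u⁻¹⁻¹
            have e1 : z 4 * u * z 4 = (z 2) ^ i * u := by
              rw [show (z 2) ^ i = _ from hi]; group
            have e2 := congrArg Inv.inv e1
            simp only [mul_inv_rev, hinv] at e2
            rw [← mul_assoc] at e2
            rw [e2, inv_inv, mul_assoc, hcu.inv_right.symm.eq, ← mul_assoc, inv_mul_cancel, one_mul,
              zpow_neg] }
      intro p hp
      refine (g.I_le' (S := A) (by omega) (fun l h1 h2 => ⟨g.mem_I h1 h2, ?_⟩) hp).2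
      rw [hinv]
      rcases lt_or_eq_of_le h1 with h5 | rfl
      · rw [(c 4 l (by omega) (by omega)).eq, mul_assoc (z l) (z 4) (z 4), g.sq, mul_one, g.sq]
        exact one_mem _
      · rw [e14, mul_assoc, g.sq, mul_one]; exact mem_zpowers _
    · -- then `z 0` centralizes modulo `z 2`
      exfalso
      refine noC 0 (Or.inl rfl) ?_
      have e03 : z 0 * z 3 * z 0 = z 2 * z 3 := by
        have : y = z 2 := by simpa using e
        rw [← this, hy, mul_assoc _ (z 3) (z 3), g.sq, mul_one]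
      have hle : I X h 4 1 3 ≤ centralizer {z 2} :=
        g.I_le' (by omega) fun l h1 h2 => mem_centralizer_singleton_iff.2 (c l 2 (by omega) (by omega))
      let A : Subgroup G :=
        { carrier := {p | p ∈ I X h 4 1 3 ∧ z 0 * p * z 0 * p⁻¹ ∈ zpowers (z 2)}
          one_mem' := ⟨one_mem _, by simp [g.sq]⟩
          mul_mem' := by
            rintro u v ⟨hu, hu'⟩ ⟨hv, hv'⟩
            refine ⟨mul_mem hu hv, ?_⟩
            obtain ⟨i, hi⟩ := hv'
            have hcu : Commute u ((z 2) ^ i) :=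
              (show Commute u (z 2) from mem_centralizer_singleton_iff.1 (hle hu)).zpow_right i
            have e : z 0 * (u * v) * z 0 * (u * v)⁻¹ = (z 0 * u * z 0 * u⁻¹) * (z 2) ^ i := by
              calc z 0 * (u * v) * z 0 * (u * v)⁻¹
                  = z 0 * u * (z 0 * z 0) * v * z 0 * v⁻¹ * u⁻¹ := by rw [g.sq, mul_one]; group
                _ = z 0 * u * z 0 * (z 0 * v * z 0 * v⁻¹) * u⁻¹ := by group
                _ = z 0 * u * z 0 * ((z 2) ^ i * u⁻¹) := by
                    rw [show z 0 * v * z 0 * v⁻¹ = (z 2) ^ i from hi.symm]; group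
                _ = _ := by rw [← hcu.inv_left.eq]; group
            rw [e]
            exact mul_mem hu' (zpow_mem (mem_zpowers _) i)
          inv_mem' := by
            rintro u ⟨hu, hu'⟩
            refine ⟨inv_mem hu, ?_⟩
            obtain ⟨i, hi⟩ := hu'
            have hcu : Commute u ((z 2) ^ i) :=
              (show Commute u (z 2) from mem_centralizer_singleton_iff.1 (hle hu)).zpow_right i
            refine ⟨-i, ?_⟩
            show (z 2) ^ (-i) = z 0 * u⁻¹ * z 0 * u⁻¹⁻¹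
            have e1 : z 0 * u * z 0 = (z 2) ^ i * u := by
              rw [show (z 2) ^ i = _ from hi]; group
            have e2 := congrArg Inv.inv e1
            simp only [mul_inv_rev, hinv] at e2
            rw [← mul_assoc] at e2
            rw [e2, inv_inv, mul_assoc, hcu.inv_right.symm.eq, ← mul_assoc, inv_mul_cancel, one_mul,
              zpow_neg] }
      intro p hp
      refine (g.I_le' (S := A) (by omega) (fun l h1 h2 => ⟨g.mem_I h1 h2, ?_⟩) hp).2
      rw [hinv]
      rcases lt_or_eq_of_le h2 with h5 | rfl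
      · rw [(c 0 l (by omega) (by omega)).eq, mul_assoc (z l) (z 0) (z 0), g.sq, mul_one, g.sq]
        exact one_mem _
      · rw [e03, mul_assoc, g.sq, mul_one]; exact mem_zpowers _
    · simpa using e
  have hcomm23 : Commute (z 2) (z 3) := c _ _ (by omega) (by omega)
  have e03 : z 0 * z 3 * z 0 = z 1 * z 2 * z 3 := by
    rw [← y_eq, hy, mul_assoc _ (z 3) (z 3), g.sq, mul_one]
  have e41 : z 4 * z 1 * z 4 = z 2 * z 3 * z 1 := by
    rw [e14, y_eq]
    have e1 := g.shift 1 1
    have e2 := g.shift 2 1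
    norm_num at e1 e2
    rw [show h * (z 1 * z 2) * h⁻¹ = (h * z 1 * h⁻¹) * (h * z 2 * h⁻¹) by group, e1, e2,
      mul_inv_rev, hinv, hinv, hcomm23.symm.eq]
  exact ⟨e03, e41⟩

end structure_

end Cfsg.Agent.Lib.SimsThree
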