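import Cfsg.Agent.Lib.SimsThree.Quot

/-!
Primitive groups with a suborbit of length three.
-/

set_option autoImplicit false
set_option linter.style.haveILetI false

namespace Cfsg.Agent.Lib.SimsThree

open Subgroup
open Cfsg.Agent.Lib.LocalChar (cj)

variable {G Ω : Type*} [Group G] [Finite G] [MulAction G Ω]

theorem stabilizer_three [FaithfulSMul G Ω] (hprim : MulAction.IsPreprimitive G Ω) (a b : Ω)
    (h3 : Nat.card (MulAction.orbit (MulAction.stabilizer G a) b) = 3) :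
    Nonempty (MulAction.stabilizer G a ≃* Multiplicative (ZMod 3)) ∨ ∃ k : ℕ, k ≤ 4 ∧
      Nat.card ↥(MulAction.stabilizer G a) = 2 ^ k * 3 ∧
      ((k = 1 ∧ Nonempty (MulAction.stabilizer G a ≃* Equiv.Perm (Fin 3))) ∨
        (k = 2 ∧ Nonempty (MulAction.stabilizer G a ≃* DihedralGroup 6)) ∨
        (k = 3 ∧ Nonempty (MulAction.stabilizer G a ≃* Equiv.Perm (Fin 4))) ∨
        (k = 4 ∧ Nonempty (MulAction.stabilizer G a ≃* Equiv.Perm (Fin 4) × Multiplicative (ZMod 2)))) := by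
  haveI := hprim.toIsPretransitive
  haveI : Finite Ω := Finite.of_surjective (fun g : G => g • a) (MulAction.surjective_smul G a)
  obtain ⟨hA, hB, hne, hcA, -, hcard, hX, -⟩ :=
    Cfsg.Agent.Lib.ThompsonWielandt.stabilizer_data hprim h3 (by norm_num)
  set H := MulAction.stabilizer G a with hH
  set N := MulAction.stabilizer G b with hN
  obtain ⟨g0, hg0⟩ := MulAction.exists_smul_eq G a b
  have hconj : cj g0 H = N := by
    rw [hN, ← hg0, MulAction.stabilizer_smul_eq_stabilizer_map_conj]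
  have hnobot : ∀ K : Subgroup G, K ≤ H ⊓ N → H ≤ normalizer (K : Set G) →
      N ≤ normalizer (K : Set G) → K = ⊥ := by
    intro K hK h1 h2
    rcases eq_or_lt_of_le h1 with h | h
    · rcases eq_or_lt_of_le (h.symm ▸ h2 : N ≤ H) with e | e
      · exact absurd e.symm hne
      · exact absurd (hB.2 H e) hA.1
    · haveI : K.Normal := normalizer_eq_top_iff.1 (hA.2 _ h)
      exact le_bot_iff.1 (hcA ▸ normal_le_normalCore.2 (hK.trans inf_le_left))
  have h3' : (H ⊓ N).relIndex N = 3 := by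
    have e1 := card_mul_relIndex' (inf_le_left : H ⊓ N ≤ H)
    have e2 := card_mul_relIndex' (inf_le_right : H ⊓ N ≤ N)
    rw [hX, hcard, ← e2] at e1
    exact (mul_left_cancel₀ (Nat.card_pos (α := ↥(H ⊓ N))).ne' e1).symm
  rcases reduce g0 hconj hnobot hX h3' with hc | ⟨h, k, z, m, hg, hm, hmk, hc, hnn⟩
  · haveI : Fact (Nat.Prime 3) := ⟨Nat.prime_three⟩
    exact Or.inl ⟨mulEquivOfPrimeCardEq (p := 3) hc (by simp)⟩
  · right
    rcases hg.bound hm hmk with ⟨hk, -⟩ | ⟨hk, hm'⟩ | ⟨hk, hm'⟩ | ⟨hk, hm'⟩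
    · exact ⟨k, by omega, hc, Or.inl ⟨hk, iso_one hg hk hc hnn⟩⟩
    · exact ⟨k, by omega, hc, Or.inr (Or.inl ⟨hk, iso_two hg (hm' ▸ hm) hk hc⟩)⟩
    · exact ⟨k, by omega, hc, Or.inr (Or.inr (Or.inl ⟨hk, iso_three hg (hm' ▸ hm) hk hc⟩))⟩
    · exact ⟨k, by omega, hc, Or.inr (Or.inr (Or.inr ⟨hk, iso_four hg (hm' ▸ hm) hk hc⟩))⟩

end Cfsg.Agent.Lib.SimsThree
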