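import Cfsg.Agent.Lib.SimsThree.Main
import Cfsg.Agent.Lib.SimsThree.FourTwo
import Cfsg.Agent.Lib.Components.StandardCore
import Cfsg.Agent.Lib.Hall.Basic

/-!
The stabilizers in the cases `k = 3, 4` modulo their cores of odd order.
-/

set_option autoImplicit false
set_option linter.style.haveILetI false
set_option linter.unusedSectionVars false

namespace Cfsg.Agent.Lib.SimsThree

open Subgroup
open Cfsg.Agent.Lib.LocalChar (card_cj mem_nz_of_cj_eq)

section core

variable {K : Type*} [Group K] [Finite K]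

lemma oddCore_eq_of {R : Subgroup K} [R.Normal] (hR : Odd (Nat.card ↥R))
    (h : ∀ M : Subgroup K, M.Normal → Odd (Nat.card ↥M) → M ≤ R) : Cfsg.oddCore K = R := by
  refine le_antisymm (sSup_le fun M hM => h M hM.1 ?_) (Cfsg.Agent.Lib.Hall.le_pPrimeCore ?_)
  · exact Nat.coprime_two_right.1 hM.2
  · exact Nat.coprime_two_right.2 hR

/-- A group in which the centralizer of a four-group has index six. -/
theorem oddCore_of_four (W : Subgroup K) [W.Normal] (hW : Nat.card ↥W = 4)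
    (hidx : (centralizer (W : Set K)).index = 6) (S : Subgroup K) (hS : IsPGroup 2 ↥S)
    (hSC : S ≤ centralizer (W : Set K)) (hCS : centralizer (W : Set K) ≤ centralizer (S : Set K))
    {q : ℕ} (hq : Odd q) (hcard : Nat.card K = 2 * Nat.card ↥S * q) :
    ∃ (R : Subgroup K) (_ : R.Normal), R = Cfsg.oddCore K ∧ R ≤ centralizer (W : Set K) ∧
      Odd (Nat.card ↥R) ∧ 3 * Nat.card ↥R = q := by
  classical
  haveI : Fact (Nat.Prime 2) := ⟨Nat.prime_two⟩
  set C := centralizer (W : Set K) with hCdef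
  have h1 := C.card_mul_index
  rw [hidx, hcard] at h1
  have h2 := card_mul_relIndex' hSC
  set r := S.relIndex C with hr
  have h3 : 3 * r = q := by
    refine mul_left_cancel₀ (mul_ne_zero two_ne_zero (Nat.card_pos (α := ↥S)).ne') ?_
    rw [← h1, ← h2]; ring
  have hro : Odd r := Nat.Odd.of_mul_right (h3 ▸ hq)
  let P : Sylow 2 ↥C := IsPGroup.toSylow (hS.comap_subtype : IsPGroup 2 ↥(S.subgroupOf C)) (by
    show ¬ 2 ∣ S.relIndex C
    exact fun h => Nat.not_even_iff_odd.2 hro (even_iff_two_dvd.2 h))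
  have hPe : (P : Subgroup ↥C) = S.subgroupOf C := rfl
  have hP : normalizer ((P : Subgroup ↥C) : Set ↥C) ≤ centralizer ((P : Subgroup ↥C) : Set ↥C) := fun x _ =>
    mem_centralizer_iff.2 fun y hy => Subtype.ext (mem_centralizer_iff.1 (hCS x.2) (y : K) hy)
  let f := MonoidHom.transferSylow P hP
  have hcompl := MonoidHom.ker_transferSylow_isComplement' P hP
  have hker : Nat.card ↥f.ker = r := by
    have h : Nat.card ↥f.ker * Nat.card ↥(S.subgroupOf C) = Nat.card ↥C := hcompl.card_mul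
    rw [Nat.card_congr (subgroupOfEquivOfLe hSC).toEquiv, ← h2, mul_comm] at h
    exact mul_left_cancel₀ (Nat.card_pos (α := ↥S)).ne' h
  have hmem : ∀ x : ↥C, x ∈ f.ker ↔ Odd (orderOf (x : K)) := fun x => by
    rw [orderOf_coe]
    constructor
    · intro hx
      exact Odd.of_dvd_nat (hker.symm ▸ hro) (orderOf_dvd_natCard _ hx)
    · intro hx
      rw [MonoidHom.mem_ker, ← orderOf_eq_one_iff]
      obtain ⟨j, hj⟩ := IsPGroup.iff_card.1 (P.2 : IsPGroup 2 ↥(P : Subgroup ↥C))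
      exact Nat.eq_one_of_dvd_coprimes (Nat.Coprime.pow_left j (Nat.coprime_two_left.2 hx))
        (hj ▸ orderOf_dvd_natCard (f x)) (orderOf_map_dvd f x)
  let R : Subgroup K := f.ker.map C.subtype
  haveI hRn : R.Normal := ⟨by
    rintro _ ⟨x, hx, rfl⟩ g
    have hC : g * (x : K) * g⁻¹ ∈ C := (inferInstance : C.Normal).conj_mem x x.2 g
    refine ⟨⟨_, hC⟩, ?_, rfl⟩
    show _ ∈ f.ker
    rw [hmem]
    show Odd (orderOf (g * (x : K) * g⁻¹))
    have he := orderOf_injective (MulAut.conj g).toMonoidHom (MulAut.conj g).injective (x : K)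
    simp only [MulEquiv.coe_toMonoidHom, MulAut.conj_apply] at he
    rw [he]
    exact (hmem x).1 hx⟩
  have hRcard : Nat.card ↥R = r := (card_map_of_injective C.subtype_injective).trans hker
  refine ⟨R, hRn, (oddCore_eq_of (hRcard.symm ▸ hro) fun M hM hMo => ?_).symm, map_subtype_le _,
    hRcard.symm ▸ hro, by rw [hRcard, h3]⟩
  haveI := hM
  have hdis : M ⊓ W = ⊥ := card_eq_one.1 (Nat.eq_one_of_dvd_coprimes
    (Nat.Coprime.pow_left 2 (Nat.coprime_two_left.2 hMo) : Nat.Coprime (2 ^ 2) (Nat.card ↥M))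
    ((card_dvd_of_le inf_le_right).trans hW.dvd) (card_dvd_of_le inf_le_left))
  have hMC : M ≤ C := commutator_eq_bot_iff_le_centralizer.1
    (Cfsg.Agent.Lib.Components.commutator_eq_bot_of_disjoint_normalizing hdis
      (by rw [normalizer_eq_top]; exact le_top) (by rw [normalizer_eq_top]; exact le_top))
  intro x hx
  exact ⟨⟨x, hMC hx⟩, (hmem _).2 (Odd.of_dvd_nat hMo (orderOf_dvd_natCard _ hx)), rfl⟩

end core

variable {G : Type*} [Group G] [Finite G] {H N X : Subgroup G} {h : G} {k : ℕ} {z : ℤ → G}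

lemma card_map_mk {K : Type*} [Group K] [Finite K] (R W : Subgroup K) [R.Normal] (hRW : W ⊓ R = ⊥) :
    Nat.card ↥(W.map (QuotientGroup.mk' R)) = Nat.card ↥W := by
  rw [← relIndex_ker, QuotientGroup.ker_mk', ← inf_relIndex_right, inf_comm, hRW, relIndex_bot_left]

lemma inf_bot_of_odd {K : Type*} [Group K] [Finite K] {R W : Subgroup K} (hW : Nat.card ↥W = 4)
    (hR : Odd (Nat.card ↥R)) : W ⊓ R = ⊥ :=
  card_eq_one.1 (Nat.eq_one_of_dvd_coprimes
    (Nat.Coprime.pow_left 2 (Nat.coprime_two_left.2 hR) : Nat.Coprime (2 ^ 2) (Nat.card ↥R))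
    ((card_dvd_of_le inf_le_left).trans hW.dvd) (card_dvd_of_le inf_le_right))

/-- The case `k = 3`. -/
theorem quotient_three (g : Gens H N X h k z) (d : Dist z 2) (hk : k = 3) {q : ℕ} (hq : Odd q)
    (hcard : Nat.card ↥H = 2 ^ k * q) :
    ∃ (R : Subgroup ↥H) (_ : R.Normal), R = Cfsg.oddCore ↥H ∧ 3 * Nat.card ↥R = q ∧
      Nonempty (↥H ⧸ R ≃* Equiv.Perm (Fin 4)) := by
  subst hk
  have hP : H ≤ normalizer (I X h 3 1 2 : Set G) := by
    have := g.le_nz_P
    norm_num at this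
    exact this
  haveI : ((I X h 3 1 2).subgroupOf H).Normal := normal_subgroupOf_of_le_normalizer hP
  have hle : I X h 3 1 2 ≤ H := g.I_le' (by omega) fun l h1 h2 => g.mem_H (by omega) (by omega)
  have hinv : ∀ l, (z l)⁻¹ = z l := fun l => inv_eq_of_mul_eq_one_right (g.sq l)
  have hz := fun (l : ℤ) (h1 : 0 ≤ l) (h2 : l ≤ 3) => g.mem_H (l := l) h1 (by simpa using h2)
  have hcard4 : Nat.card ↥((I X h 3 1 2).subgroupOf H) = 4 := by
    rw [Nat.card_congr (subgroupOfEquivOfLe hle).toEquiv, g.card_I (by omega) (by omega)]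
    rfl
  have hc01 : Commute (z 0) (z 1) := d.comm _ _ (by omega) (by omega)
  have hc32 : Commute (z 3) (z 2) := d.comm _ _ (by omega) (by omega)
  have moved : ∀ a x y : ℤ, z a * z x * z a ∈ I X h 3 1 2 → Commute (z a) (z y) →
      ¬ Commute (z a) (z x) → ((x = 1 ∧ y = 2) ∨ (x = 2 ∧ y = 1)) → z a * z x * z a = z 1 * z 2 := by
    intro a x y hm hy hx hxy
    have hxy' : z x ≠ z y := fun e => hx (e ▸ hy)
    have hback : z x = z a * (z a * z x * z a) * z a := by
      rw [show z a * (z a * z x * z a) * z a = z a * z a * z x * (z a * z a) by simp only [mul_assoc],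
        g.sq, one_mul, mul_one]
    rcases g.mem_pair (a := 1) (by omega) hm with e | e | e | e
    · exact absurd (by rw [hback, e, mul_one, g.sq]) (g.ne x)
    · rcases hxy with ⟨rfl, rfl⟩ | ⟨rfl, rfl⟩
      · refine absurd ?_ hx
        show z a * z 1 = z 1 * z a
        conv_rhs => rw [← e]
        rw [mul_assoc _ (z a) (z a), g.sq, mul_one]
      · exact absurd (by rw [hback, e, hy.eq, mul_assoc, g.sq, mul_one]) hxy'
    · rcases hxy with ⟨rfl, rfl⟩ | ⟨rfl, rfl⟩
      · exact absurd (by rw [hback, e, show z (1 + 1) = z 2 from rfl, hy.eq, mul_assoc, g.sq, mul_one]) hxy'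
      · refine absurd ?_ hx
        show z a * z 2 = z 2 * z a
        conv_rhs => rw [show z 2 = z (1 + 1) from rfl, ← e]
        rw [mul_assoc _ (z a) (z a), g.sq, mul_one]
    · exact e
  have hconj : ∀ l x : ℤ, 0 ≤ l → l ≤ 3 → 1 ≤ x → x ≤ 2 → z l * z x * z l ∈ I X h 3 1 2 := by
    intro l x h1 h2 h3 h4
    have := (mem_normalizer_iff.1 (hP (hz l h1 h2)) (z x)).1 (g.mem_I h3 h4)
    rwa [hinv] at this
  have e02 : z 0 * z 2 * z 0 = z 1 * z 2 :=
    moved 0 2 1 (hconj 0 2 le_rfl (by omega) (by omega) le_rfl) hc01 (by simpa using d.ncomm 0)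
      (Or.inr ⟨rfl, rfl⟩)
  have e31 : z 3 * z 1 * z 3 = z 1 * z 2 :=
    moved 3 1 2 (hconj 3 1 (by omega) le_rfl le_rfl (by omega)) hc32
      (fun e => d.ncomm 1 (by simpa using e.symm)) (Or.inl ⟨rfl, rfl⟩)
  set W := (I X h 3 1 2).subgroupOf H with hWdef
  let u : ↥H := ⟨z 1, hz 1 (by omega) (by omega)⟩
  let v : ↥H := ⟨z 2, hz 2 (by omega) (by omega)⟩
  let a : ↥H := ⟨z 0, hz 0 le_rfl (by omega)⟩
  let b : ↥H := ⟨z 3, hz 3 (by omega) le_rfl⟩
  have hu : u ∈ W := g.mem_I le_rfl (by omega)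
  have hv : v ∈ W := g.mem_I (by omega) le_rfl
  have hu1 : u ≠ 1 := fun e => g.ne 1 (congrArg Subtype.val e)
  have hau : a * u * a⁻¹ = u := Subtype.ext (show z 0 * z 1 * (z 0)⁻¹ = z 1 by
    rw [hinv, hc01.eq, mul_assoc, g.sq, mul_one])
  have hav : a * v * a⁻¹ = u * v := Subtype.ext (show z 0 * z 2 * (z 0)⁻¹ = z 1 * z 2 by rw [hinv, e02])
  have hbu : b * u * b⁻¹ = u * v := Subtype.ext (show z 3 * z 1 * (z 3)⁻¹ = z 1 * z 2 by rw [hinv, e31])
  have hbv : b * v * b⁻¹ = v := Subtype.ext (show z 3 * z 2 * (z 3)⁻¹ = z 2 by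
    rw [hinv, hc32.eq, mul_assoc, g.sq, mul_one])
  have ha2 : a * a = 1 := Subtype.ext (g.sq 0)
  have hb2 : b * b = 1 := Subtype.ext (g.sq 3)
  have hidx := centralizer_four_index W hcard4 hu hv hu1 hau hav hbu hbv ha2 hb2
  haveI : Fact (Nat.Prime 2) := ⟨Nat.prime_two⟩
  haveI : IsMulCommutative ↥W := IsPGroup.isMulCommutative_of_card_eq_prime_sq (p := 2) hcard4
  obtain ⟨R, hR, hRo, -, hRodd, hRc⟩ := oddCore_of_four W hcard4 hidx W
    (IsPGroup.of_card (n := 2) hcard4) (le_centralizer W) le_rfl hq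
    (by rw [hcard, hcard4]; norm_num)
  refine ⟨R, hR, hRo, hRc, ?_⟩
  have hWR : W ⊓ R = ⊥ := inf_bot_of_odd hcard4 hRodd
  let π := QuotientGroup.mk' R
  haveI : (W.map π).Normal := Normal.map inferInstance _ (QuotientGroup.mk'_surjective R)
  have hK24 : Nat.card (↥H ⧸ R) = 24 := by
    have h1 := R.card_eq_card_quotient_mul_card_subgroup
    rw [hcard, ← hRc] at h1
    exact mul_right_cancel₀ (Nat.card_pos (α := ↥R)).ne' (h1.symm.trans (by ring))
  have key : ∀ x y w : ↥H, x * y * x⁻¹ = w → π x * π y * (π x)⁻¹ = π w := fun x y w e => by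
    rw [← map_inv, ← map_mul, ← map_mul, e]
  exact perm_four (W.map π) (by rw [card_map_mk R W hWR, hcard4]) hK24
    (u := π u) (v := π v) (a := π a) (b := π b)
    ⟨u, hu, rfl⟩ ⟨v, hv, rfl⟩ (fun e => hu1 (mem_bot.1 (hWR ▸ ⟨hu, (QuotientGroup.eq_one_iff u).1 e⟩ :
      u ∈ (⊥ : Subgroup ↥H)))) (key _ _ _ hau) (by rw [key _ _ _ hav, map_mul])
    (by rw [key _ _ _ hbu, map_mul]) (key _ _ _ hbv)
    (by rw [← map_mul, ha2, map_one]) (by rw [← map_mul, hb2, map_one])

/-- The case `k = 4`. -/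
theorem quotient_four (g : Gens H N X h k z) (d : Dist z 3) (hk : k = 4) {q : ℕ} (hq : Odd q)
    (hcard : Nat.card ↥H = 2 ^ k * q) :
    ∃ (R : Subgroup ↥H) (_ : R.Normal), R = Cfsg.oddCore ↥H ∧ 3 * Nat.card ↥R = q ∧
      Nonempty (↥H ⧸ R ≃* Equiv.Perm (Fin 4) × Multiplicative (ZMod 2)) := by
  obtain ⟨e03, e41⟩ := g.relations_four d hk hq hcard
  subst hk
  haveI : Fact (Nat.Prime 2) := ⟨Nat.prime_two⟩
  have hinv : ∀ l, (z l)⁻¹ = z l := fun l => inv_eq_of_mul_eq_one_right (g.sq l)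
  have hz := fun (l : ℤ) (h1 : 0 ≤ l) (h2 : l ≤ 4) => g.mem_H (l := l) h1 (by simpa using h2)
  have c : ∀ i j : ℤ, j - i < 3 → i - j < 3 → Commute (z i) (z j) := fun i j a b =>
    d.comm i j (by omega) (by omega)
  have hPle : I X h 4 1 3 ≤ H := g.I_le' (by omega) fun l h1 h2 => hz l (by omega) (by omega)
  let s : ∀ l : ℤ, 0 ≤ l → l ≤ 4 → ↥H := fun l h1 h2 => ⟨z l, hz l h1 h2⟩
  let z0 := s 0 le_rfl (by omega)
  let z1 := s 1 (by omega) (by omega)
  let z2 := s 2 (by omega) (by omega)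
  let z3 := s 3 (by omega) (by omega)
  let z4 := s 4 (by omega) le_rfl
  have c01 : z0 * z1 = z1 * z0 := Subtype.ext (c 0 1 (by omega) (by omega)).eq
  have c02 : z0 * z2 = z2 * z0 := Subtype.ext (c 0 2 (by omega) (by omega)).eq
  have c12 : z1 * z2 = z2 * z1 := Subtype.ext (c 1 2 (by omega) (by omega)).eq
  have c13 : z1 * z3 = z3 * z1 := Subtype.ext (c 1 3 (by omega) (by omega)).eq
  have c23 : z2 * z3 = z3 * z2 := Subtype.ext (c 2 3 (by omega) (by omega)).eq
  have c42 : z4 * z2 = z2 * z4 := Subtype.ext (c 4 2 (by omega) (by omega)).eq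
  have c43 : z4 * z3 = z3 * z4 := Subtype.ext (c 4 3 (by omega) (by omega)).eq
  have f03 : z0 * z3 * z0⁻¹ = z1 * z2 * z3 :=
    Subtype.ext (show z 0 * z 3 * (z 0)⁻¹ = z 1 * z 2 * z 3 by rw [hinv, e03])
  have f41 : z4 * z1 * z4⁻¹ = z2 * z3 * z1 :=
    Subtype.ext (show z 4 * z 1 * (z 4)⁻¹ = z 2 * z 3 * z 1 by rw [hinv, e41])
  have q1 : z1 * z1 = 1 := Subtype.ext (g.sq 1)
  have q2 : z2 * z2 = 1 := Subtype.ext (g.sq 2)
  have q3 : z3 * z3 = 1 := Subtype.ext (g.sq 3)
  have hcen : ∀ x : ↥H, x * z2 = z2 * x := fun x => Subtype.ext (mem_centralizer_singleton_iff.1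
    (g.le_H (S := centralizer {z 2}) (fun l h1 h2 => mem_centralizer_singleton_iff.2
      (c l 2 (by omega) (by omega))) x.2))
  set u := z1 * z2 with hu
  set v := z2 * z3 with hv
  have hau : z0 * u * z0⁻¹ = u := by
    rw [hu, ← mul_assoc, c01, mul_assoc z1, c02, ← mul_assoc, mul_inv_cancel_right]
  have hbv : z4 * v * z4⁻¹ = v := by
    rw [hv, ← mul_assoc, c42, mul_assoc z2, c43, ← mul_assoc, mul_inv_cancel_right]
  have hvu : v * u = u * v := by
    rw [hu, hv]
    simp only [← mul_assoc]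
    rw [mul_assoc z2 z3 z1, ← c13, ← mul_assoc, ← c12, mul_assoc (z1 * z2) z3 z2, ← c23, ← mul_assoc]
  have hav : z0 * v * z0⁻¹ = u * v := by
    rw [hv, ← mul_assoc, c02, mul_assoc z2 z0 z3, mul_assoc z2 (z0 * z3), f03, hu]
    simp only [← mul_assoc]
    rw [← c12]
  have hbu : z4 * u * z4⁻¹ = u * v := by
    rw [← hvu, hu, show z4 * (z1 * z2) * z4⁻¹ = (z4 * z1 * z4⁻¹) * (z4 * z2 * z4⁻¹) by group, f41, c42,
      mul_inv_cancel_right, hv]
    simp only [mul_assoc]
  have huu : u * u = 1 := by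
    rw [hu, show z1 * z2 * (z1 * z2) = z1 * (z2 * z1) * z2 by group, ← c12,
      show z1 * (z1 * z2) * z2 = (z1 * z1) * (z2 * z2) by group,
      q1, q2, one_mul]
  have hvv : v * v = 1 := by
    rw [hv, show z2 * z3 * (z2 * z3) = z2 * (z3 * z2) * z3 by group, ← c23,
      show z2 * (z2 * z3) * z3 = (z2 * z2) * (z3 * z3) by group,
      q2, q3, one_mul]
  have hu1 : u ≠ 1 := fun e => by
    have e' : z 1 = z 2 := by
      have := congrArg Subtype.val (eq_inv_of_mul_eq_one_left e)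
      exact this.trans (hinv 2)
    have h1 : z 1 ∈ I X h 4 1 1 ⊓ I X h 4 2 2 := ⟨g.mem_I le_rfl le_rfl, e' ▸ g.mem_I le_rfl le_rfl⟩
    rw [I_inf (by omega) (by omega), g.I_eq_bot (by omega), mem_bot] at h1
    exact g.ne 1 h1
  have huv : u * v * v = u := by rw [mul_assoc, hvv, mul_one]
  let W : Subgroup ↥H :=
    { carrier := {1, u, v, u * v}
      one_mem' := Or.inl rfl
      mul_mem' := by
        have k1 : u * (u * v) = v := by rw [← mul_assoc, huu, one_mul]
        have k2 : v * (u * v) = u := by rw [← mul_assoc, hvu, mul_assoc, hvv, mul_one]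
        have k3 : u * v * u = v := by rw [mul_assoc, hvu, k1]
        have k5 : u * v * (u * v) = 1 := by rw [← mul_assoc, k3, hvv]
        rintro x y (rfl | rfl | rfl | rfl) (rfl | rfl | rfl | rfl) <;>
          simp [huu, hvv, hvu, k1, k2, k3, huv, k5]
      inv_mem' := by
        rintro x (rfl | rfl | rfl | rfl)
        · simp
        · rw [inv_eq_of_mul_eq_one_right huu]; simp
        · rw [inv_eq_of_mul_eq_one_right hvv]; simp
        · rw [mul_inv_rev, inv_eq_of_mul_eq_one_right huu, inv_eq_of_mul_eq_one_right hvv, hvu]; simp }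
  have hmu : u ∈ W := Or.inr (Or.inl rfl)
  have hmv : v ∈ W := Or.inr (Or.inr (Or.inl rfl))
  let P := (I X h 4 1 3).subgroupOf H
  have hP8 : Nat.card ↥P = 8 := by
    rw [Nat.card_congr (subgroupOfEquivOfLe hPle).toEquiv, g.card_I (by omega) (by omega)]; rfl
  have hWP : W ≤ P := by
    have h1 : u ∈ P := mul_mem (g.mem_I le_rfl (by omega)) (g.mem_I (by omega) (by omega))
    have h2 : v ∈ P := mul_mem (g.mem_I (by omega) (by omega)) (g.mem_I (by omega) le_rfl)
    rintro x (rfl | rfl | rfl | rfl)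
    exacts [one_mem _, h1, h2, mul_mem h1 h2]
  have hPW : P ≤ W ⊔ zpowers z2 := by
    intro x hx
    have hle : I X h 4 1 3 ≤ (W ⊔ zpowers z2).map H.subtype := g.I_le' (by omega) fun l h1 h2 => by
      have m2 : z2 ∈ W ⊔ zpowers z2 := mem_sup_right (mem_zpowers _)
      rcases eq_or_ne l 1 with rfl | hl1
      · refine ⟨u * z2, mul_mem (mem_sup_left hmu) m2, ?_⟩
        show z 1 * z 2 * z 2 = z 1
        rw [mul_assoc, g.sq, mul_one]
      rcases eq_or_ne l 3 with rfl | hl3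
      · refine ⟨z2 * v, mul_mem m2 (mem_sup_left hmv), ?_⟩
        show z 2 * (z 2 * z 3) = z 3
        rw [← mul_assoc, g.sq, one_mul]
      obtain rfl : l = 2 := by omega
      exact ⟨z2, m2, rfl⟩
    obtain ⟨y, hy, hyx⟩ := hle hx
    rwa [← H.subtype_injective hyx]
  have hWn : W.Normal := by
    refine ⟨fun x hx y => ?_⟩
    have hall : H ≤ (normalizer (W : Set ↥H)).map H.subtype := g.le_H fun l h1 h2 => by
      have h2' : l ≤ 4 := by simpa using h2
      refine ⟨s l h1 h2', ?_, rfl⟩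
      have hc : ∀ w ∈ ({1, u, v, u * v} : Set ↥H), s l h1 h2' * w * (s l h1 h2')⁻¹ ∈ W := by
        have hmul : ∀ p q : ↥H, s l h1 h2' * (p * q) * (s l h1 h2')⁻¹ =
            (s l h1 h2' * p * (s l h1 h2')⁻¹) * (s l h1 h2' * q * (s l h1 h2')⁻¹) := fun p q => by group
        have hU : s l h1 h2' * u * (s l h1 h2')⁻¹ ∈ W ∧ s l h1 h2' * v * (s l h1 h2')⁻¹ ∈ W := by
          rcases eq_or_ne l 0 with rfl | hl0
          · exact ⟨by rw [show s 0 h1 h2' = z0 from rfl, hau]; exact hmu,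
              by rw [show s 0 h1 h2' = z0 from rfl, hav]; exact mul_mem hmu hmv⟩
          rcases eq_or_ne l 4 with rfl | hl4
          · exact ⟨by rw [show s 4 h1 h2' = z4 from rfl, hbu]; exact mul_mem hmu hmv,
              by rw [show s 4 h1 h2' = z4 from rfl, hbv]; exact hmv⟩
          have hcl : ∀ w ∈ P, s l h1 h2' * w * (s l h1 h2')⁻¹ = w := fun w hw =>
            mul_inv_eq_iff_eq_mul.2 (Subtype.ext
              (g.commute_of_I (by omega) (fun j h3 h4 => c j l (by omega) (by omega)) hw).eq.symm)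
          exact ⟨by rw [hcl u (hWP hmu)]; exact hmu, by rw [hcl v (hWP hmv)]; exact hmv⟩
        rintro w (rfl | rfl | rfl | rfl)
        · simp
        · exact hU.1
        · exact hU.2
        · rw [hmul]; exact mul_mem hU.1 hU.2
      refine mem_nz_of_cj_eq (eq_of_le_of_card_ge ?_ (card_cj _ W).ge)
      rintro _ ⟨w, hw, rfl⟩
      exact hc w hw
    obtain ⟨y', hy', hyy⟩ := hall y.2
    rw [H.subtype_injective hyy] at hy'
    exact (mem_normalizer_iff.1 hy' x).1 hx
  haveI := hWn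
  have hW4 : Nat.card ↥W = 4 := by
    have h1 : Nat.card ↥W ≤ 4 := by
      show Nat.card ({1, u, v, u * v} : Set ↥H) ≤ 4
      rw [Nat.card_coe_set_eq]
      refine le_trans (Set.ncard_insert_le _ _) ?_
      refine Nat.succ_le_succ (le_trans (Set.ncard_insert_le _ _) ?_)
      refine Nat.succ_le_succ (le_trans (Set.ncard_insert_le _ _) ?_)
      simp
    have h2 := card_le_of_le hPW
    rw [hP8] at h2
    have h3 := Cfsg.Agent.Lib.Components.card_sup_mul_card_inf_eq (N := W) (M := zpowers z2)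
      (by rw [normalizer_eq_top]; exact le_top)
    rw [Nat.card_zpowers z2, orderOf_eq_prime (show z2 ^ 2 = 1 by rw [pow_two]; exact q2)
      (fun e => g.ne 2 (congrArg Subtype.val e))] at h3
    have h7 : 0 < Nat.card ↥(W ⊓ zpowers z2) := Nat.card_pos
    have h8 : Nat.card ↥(W ⊔ zpowers z2) ≤
        Nat.card ↥(W ⊔ zpowers z2) * Nat.card ↥(W ⊓ zpowers z2) := Nat.le_mul_of_pos_right _ h7
    omega
  have hcW : z2 ∉ W := fun hm => by
    have h1 := card_le_of_le (hPW.trans (sup_le le_rfl (zpowers_le.2 hm)))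
    omega
  have ha2 : z0 * z0 = 1 := Subtype.ext (g.sq 0)
  have hb2 : z4 * z4 = 1 := Subtype.ext (g.sq 4)
  have hidx := centralizer_four_index W hW4 hmu hmv hu1 hau hav hbu hbv ha2 hb2
  have hPC : centralizer (W : Set ↥H) ≤ centralizer (P : Set ↥H) := fun x hx => by
    refine mem_centralizer_iff.2 fun w hw => ?_
    have : W ⊔ zpowers z2 ≤ centralizer {x} := sup_le
      (fun t ht => mem_centralizer_singleton_iff.2 (mem_centralizer_iff.1 hx t ht))
      (zpowers_le.2 (mem_centralizer_singleton_iff.2 (hcen x).symm))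
    exact mem_centralizer_singleton_iff.1 (this (hPW hw))
  have hPp : P ≤ centralizer (W : Set ↥H) := fun x hx => mem_centralizer_iff.2 fun w hw =>
    Subtype.ext (g.commute_of_I (by omega) (fun l h1 h2 => (g.commute_of_I (by omega)
      (fun j h3 h4 => c j l (by omega) (by omega)) (x := z l) hx).symm) (hWP hw)).eq
  obtain ⟨R, hR, hRo, -, hRodd, hRc⟩ := oddCore_of_four W hW4 hidx P
    (IsPGroup.of_card (n := 3) hP8) hPp hPC hq (by rw [hcard, hP8]; norm_num)
  refine ⟨R, hR, hRo, hRc, ?_⟩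
  have hWR : W ⊓ R = ⊥ := inf_bot_of_odd hW4 hRodd
  let π := QuotientGroup.mk' R
  haveI : (W.map π).Normal := Normal.map inferInstance _ (QuotientGroup.mk'_surjective R)
  have hK48 : Nat.card (↥H ⧸ R) = 48 := by
    have h1 := R.card_eq_card_quotient_mul_card_subgroup
    rw [hcard, ← hRc] at h1
    exact mul_right_cancel₀ (Nat.card_pos (α := ↥R)).ne' (h1.symm.trans (by ring))
  have key : ∀ x y w : ↥H, x * y * x⁻¹ = w → π x * π y * (π x)⁻¹ = π w := fun x y w e => by
    rw [← map_inv, ← map_mul, ← map_mul, e]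
  refine perm_four_two (W.map π) (by rw [card_map_mk R W hWR, hW4]) hK48
    (u := π u) (v := π v) (a := π z0) (b := π z4) (c := π z2)
    ⟨u, hmu, rfl⟩ ⟨v, hmv, rfl⟩ (fun e => hu1 (mem_bot.1 (hWR ▸ ⟨hmu, (QuotientGroup.eq_one_iff u).1 e⟩ :
      u ∈ (⊥ : Subgroup ↥H)))) (key _ _ _ hau) (by rw [key _ _ _ hav, map_mul])
    (by rw [key _ _ _ hbu, map_mul]) (key _ _ _ hbv)
    (by rw [← map_mul, ha2, map_one]) (by rw [← map_mul, hb2, map_one]) ?_ ?_ ?_
  · intro x
    obtain ⟨y, rfl⟩ := QuotientGroup.mk'_surjective R x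
    rw [← map_mul, ← map_mul, hcen y]
  · rw [← map_mul, q2, map_one]
  · rintro ⟨w, hw, hwe⟩
    have h1 : w⁻¹ * z2 ∈ R := QuotientGroup.eq.1 hwe
    have h2 : w⁻¹ * z2 ∈ P := mul_mem (inv_mem (hWP hw)) (g.mem_I (by omega) (by omega))
    have h3 : P ⊓ R = ⊥ := card_eq_one.1 (Nat.eq_one_of_dvd_coprimes
      (Nat.Coprime.pow_left 3 (Nat.coprime_two_left.2 hRodd) : Nat.Coprime (2 ^ 3) (Nat.card ↥R))
      ((card_dvd_of_le inf_le_left).trans hP8.dvd) (card_dvd_of_le inf_le_right))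
    have h4 : w⁻¹ * z2 = 1 := mem_bot.1 (h3 ▸ ⟨h2, h1⟩ : w⁻¹ * z2 ∈ (⊥ : Subgroup ↥H))
    exact hcW (inv_mul_eq_one.1 h4 ▸ hw)

/-- The stabilizer in the case `k = 4`. -/
theorem iso_four (g : Gens H N X h k z) (d : Dist z 3) (hk : k = 4)
    (hcard : Nat.card ↥H = 2 ^ k * 3) :
    Nonempty (↥H ≃* Equiv.Perm (Fin 4) × Multiplicative (ZMod 2)) := by
  obtain ⟨R, hR, -, hc, ⟨e⟩⟩ := quotient_four g d hk (by decide : Odd 3) hcard
  have h1 : R = ⊥ := card_eq_one.1 (by omega)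
  exact ⟨(QuotientGroup.quotientBot.symm.trans (QuotientGroup.quotientMulEquivOfEq h1.symm)).trans e⟩

end Cfsg.Agent.Lib.SimsThree
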